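import Cfsg.Agent.Lib.Fischer3T52.Radical.Model

/-!
# The checks on Hermitian three-by-three matrices over four elements
-/

set_option autoImplicit false
set_option Elab.async false

namespace Cfsg.Agent.Lib.Fischer3T52.Radical

theorem cert_0 : ((List.range' 1 63).all certAt) = true := by decide +kernel

theorem cert_1 : ((List.range' 64 64).all certAt) = true := by decide +kernel

theorem cert_2 : ((List.range' 128 64).all certAt) = true := by decide +kernel

theorem cert_3 : ((List.range' 192 64).all certAt) = true := by decide +kernel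

theorem cert_4 : ((List.range' 256 64).all certAt) = true := by decide +kernel

theorem cert_5 : ((List.range' 320 64).all certAt) = true := by decide +kernel

theorem cert_6 : ((List.range' 384 64).all certAt) = true := by decide +kernel

theorem cert_7 : ((List.range' 448 64).all certAt) = true := by decide +kernel

theorem cert_all {n : ℕ} (h1 : 1 ≤ n) (h2 : n < 512) : certAt n = true := by
  have h : ∀ {a m : ℕ}, ((List.range' a m).all certAt) = true → a ≤ n → n < a + m → certAt n = true :=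
    fun h ha hb => List.all_eq_true.1 h n (List.mem_range'_1.2 ⟨ha, hb⟩)
  by_cases g0 : n < 64
  · exact h cert_0 (by omega) (by omega)
  by_cases g1 : n < 128
  · exact h cert_1 (by omega) (by omega)
  by_cases g2 : n < 192
  · exact h cert_2 (by omega) (by omega)
  by_cases g3 : n < 256
  · exact h cert_3 (by omega) (by omega)
  by_cases g4 : n < 320
  · exact h cert_4 (by omega) (by omega)
  by_cases g5 : n < 384
  · exact h cert_5 (by omega) (by omega)
  by_cases g6 : n < 448
  · exact h cert_6 (by omega) (by omega)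
  by_cases g7 : n < 512
  · exact h cert_7 (by omega) (by omega)
  omega

/-- The number of matrices of each rank. -/
theorem rank_counts :
    ((List.range' 1 511).countP fun n => rnkOf n == 1) = 21 ∧
    ((List.range' 1 511).countP fun n => rnkOf n == 2) = 210 ∧
    ((List.range' 1 511).countP fun n => rnkOf n == 3) = 280 := by decide +kernel

/-- An involutory unitriangular matrix fixes at most 32. -/
def fixCount (a b c : Fin 4) : ℕ :=
  (List.range 512).countP fun n => hcong (uni a b c) (dcd n) == dcd n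

theorem fix_0_0 : ∀ b : Fin 4, ¬ ((0 : Fin 4) = 0 ∧ b = 0 ∧ (0 : Fin 4) = 0) → fixCount 0 b 0 ≤ 32 := by
  decide +kernel

theorem fix_0_1 : ∀ b : Fin 4, ¬ ((0 : Fin 4) = 0 ∧ b = 0 ∧ (1 : Fin 4) = 0) → fixCount 0 b 1 ≤ 32 := by
  decide +kernel

theorem fix_0_2 : ∀ b : Fin 4, ¬ ((0 : Fin 4) = 0 ∧ b = 0 ∧ (2 : Fin 4) = 0) → fixCount 0 b 2 ≤ 32 := by
  decide +kernel

theorem fix_0_3 : ∀ b : Fin 4, ¬ ((0 : Fin 4) = 0 ∧ b = 0 ∧ (3 : Fin 4) = 0) → fixCount 0 b 3 ≤ 32 := by
  decide +kernel

theorem fix_1_0 : ∀ b : Fin 4, ¬ ((1 : Fin 4) = 0 ∧ b = 0 ∧ (0 : Fin 4) = 0) → fixCount 1 b 0 ≤ 32 := by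
  decide +kernel

theorem fix_2_0 : ∀ b : Fin 4, ¬ ((2 : Fin 4) = 0 ∧ b = 0 ∧ (0 : Fin 4) = 0) → fixCount 2 b 0 ≤ 32 := by
  decide +kernel

theorem fix_3_0 : ∀ b : Fin 4, ¬ ((3 : Fin 4) = 0 ∧ b = 0 ∧ (0 : Fin 4) = 0) → fixCount 3 b 0 ≤ 32 := by
  decide +kernel

/-- The members fixed by three matrices. -/
def fixThree (g₁ g₂ g₃ : Fin 3 → Fin 3 → Fin 4) : ℕ :=
  (List.range 512).countP fun n => hcong g₁ (dcd n) == dcd n && hcong g₂ (dcd n) == dcd n && hcong g₃ (dcd n) == dcd n

theorem fix_row : fixThree (uni 1 0 0) (uni 2 0 0) (uni 0 1 0) ≤ 16 := by decide +kernel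

theorem fix_col : fixThree (uni 0 0 1) (uni 0 0 2) (uni 0 1 0) ≤ 16 := by decide +kernel

theorem dcd_ecd : ∀ x : Hm, dcd (ecd x) = x := by decide +kernel

theorem ecd_lt : ∀ x : Hm, ecd x < 512 := by decide +kernel

end Cfsg.Agent.Lib.Fischer3T52.Radical
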