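import Cfsg.Agent.Lib.Fischer3T52.Radical.Cover
import Cfsg.Agent.Lib.Fischer3T60.Interface

/-!
# The three classes on the preimage of a radical
-/

set_option autoImplicit false
set_option linter.unusedSectionVars false

namespace Cfsg.Agent.Lib.Fischer3T52.Radical

open Cfsg Cfsg.Agent.Lib.PSUAut Cfsg.Agent.Lib.ThreeTransp.PSUSix Cfsg.Agent.Lib.M22Struct66

theorem ecd_dcd : ∀ n : Fin 512, ecd (dcd n.1) = n.1 := by decide +kernel

theorem rnk_cases : ∀ n : Fin 512, n.1 ≠ 0 → rnkOf n.1 = 1 ∨ rnkOf n.1 = 2 ∨ rnkOf n.1 = 3 := by decide +kernel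

/-- The codes of a given rank. -/
def rankSet (r : ℕ) : Finset ℕ := (Finset.range 512).filter fun n => n ≠ 0 ∧ rnkOf n = r

theorem rankSet_card : (rankSet 1).card = 21 ∧ (rankSet 2).card = 210 ∧ (rankSet 3).card = 280 := by
  decide +kernel

theorem mem_rankSet {r n : ℕ} : n ∈ rankSet r ↔ n < 512 ∧ n ≠ 0 ∧ rnkOf n = r := by
  simp [rankSet]

variable {F : Type} [Field F] [Fintype F]

local notation "SU6" => (SUType 6 F 2)

variable (hF : Fintype.card F = 4) {e f : Fin 3 → Fin 6 → F} (hfr : IsFrame e f)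
include hF hfr

/-- An enumeration of the radical by codes, carried by the stabiliser along each rank. -/
theorem exists_enum : ∃ φ : ℕ → Cfsg.PSU 6 F 2,
    (∀ n, φ n ∈ rad e) ∧ φ 0 = 1 ∧ (∀ n < 512, ∀ m < 512, φ n = φ m → n = m) ∧
    (∀ x ∈ rad e, ∃ n < 512, φ n = x) ∧
    ∀ r, ∀ n ∈ rankSet r, ∀ m ∈ rankSet r, ∃ g ∈ nrad e, g * φ n * g⁻¹ = φ m := by
  obtain ⟨ω, hω⟩ := exists_omega hF
  choose el₀ hel₀ hx₀ using exists_el hF hfr ω hω
  have hmem : ∀ x, el₀ x ∈ fixM e := fun x => tvM_le hF hfr (hel₀ x)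
  refine ⟨fun n => proj (el₀ (dcd n)), fun n => ⟨_, hmem _, rfl⟩, ?_, ?_, ?_, ?_⟩
  · have h1 : el₀ (dcd 0) = 1 := xm_inj hF hfr (hmem _) (one_mem _) fun k l => by
      rw [hx₀, xm_one hF hfr, mat, ← el_zero (ω := ω)]
      congr 1
      fin_cases k <;> fin_cases l <;> decide
    simp only [h1, map_one]
  · intro n hn m hm h
    have h1 := eq_of_proj_eq₀ hF hfr (hmem _ 0) (hmem _ 0) h
    have h2 : dcd n = dcd m := mat_inj hF hω fun k l => by rw [← hx₀, ← hx₀, h1]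
    rw [← show ecd (dcd n) = n from ecd_dcd ⟨n, hn⟩, ← show ecd (dcd m) = m from ecd_dcd ⟨m, hm⟩, h2]
  · rintro _ ⟨s, hs, rfl⟩
    obtain ⟨x, hx⟩ := exists_code hF hfr ω hω hs
    refine ⟨ecd x, ecd_lt x, ?_⟩
    show proj (el₀ (dcd (ecd x))) = proj s
    rw [dcd_ecd, xm_inj hF hfr (hmem x) hs fun k l => (hx₀ x k l).trans (hx k l).symm]
  · have hstep : ∀ (k : Fin 12) (p n : ℕ), hcong (gen k) (dcd p) = dcd n →
        ∃ g ∈ nrad e, g * proj (el₀ (dcd p)) * g⁻¹ = proj (el₀ (dcd n)) := by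
      intro k p n hkn
      obtain ⟨i, j, hij, a, hg⟩ : ∃ i j : Fin 3, i ≠ j ∧ ∃ a : Fin 4, gen k = elat i j a :=
        ⟨_, _, by fin_cases k <;> decide, _, rfl⟩
      have hs := elel_mem hF hfr hij (el ω a)
      refine ⟨proj (elel e f i j (el ω a)), ⟨_, hs, rfl⟩, ?_⟩
      have hc := conj_fixM hF hfr hs (hmem (dcd p))
      obtain ⟨y, hy⟩ := exists_code hF hfr ω hω hc
      have hgm : ∀ r s, el ω (gen k r s) = gm e f (elel e f i j (el ω a)) r s := fun r s => by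
        rw [hg, gm_elel hF hfr hij, elat]
        split_ifs <;> rfl
      have hyn : y = dcd n := by
        rw [← hkn]
        refine (hcong_eq hF hω fun r s => ?_).symm
        rw [← hy, xm_conj hF hfr hs (hmem _)]
        simp only [hgm, hx₀]
      rw [← map_inv, ← map_mul, ← map_mul,
        xm_inj hF hfr hc (hmem (dcd n)) fun r s => by rw [hy, hx₀, hyn]]
    have hroot : ∀ D n, depOf n ≤ D → n < 512 → n ≠ 0 →
        ∃ g ∈ nrad e, g * proj (el₀ (dcd (rootOf (rnkOf n)))) * g⁻¹ = proj (el₀ (dcd n)) := by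
      intro D
      induction D using Nat.strong_induction_on with
      | _ D ih =>
        intro n hD hn hn0
        have hc := cert_all (by omega) hn
        simp only [certAt, Bool.or_eq_true, Bool.and_eq_true, beq_iff_eq, decide_eq_true_eq, bne_iff_ne] at hc
        rcases hc with ⟨-, hroot⟩ | ⟨⟨⟨⟨hdep, hrk⟩, hp⟩, hp0⟩, hcg⟩
        · exact ⟨1, one_mem _, by rw [← hroot]; simp⟩
        · obtain ⟨g, hg, hgp⟩ := ih (depOf (parOf n)) (lt_of_lt_of_le hdep hD) _ le_rfl hp hp0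
          obtain ⟨g', hg', hg'n⟩ := hstep _ _ _ hcg
          refine ⟨g' * g, mul_mem hg' hg, ?_⟩
          rw [← hrk, ← hg'n, ← hgp]
          group
    intro r n hn m hm
    obtain ⟨hn1, hn0, hnr⟩ := mem_rankSet.1 hn
    obtain ⟨hm1, hm0, hmr⟩ := mem_rankSet.1 hm
    obtain ⟨g, hg, hgn⟩ := hroot _ n le_rfl hn1 hn0
    obtain ⟨g', hg', hgm⟩ := hroot _ m le_rfl hm1 hm0
    rw [hnr] at hgn
    rw [hmr] at hgm
    refine ⟨g' * g⁻¹, mul_mem hg' (inv_mem hg), ?_⟩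
    simp only [← hgn, ← hgm]
    group

variable {G : Type*} [Group G] {d : G} {π : ↥(Subgroup.centralizer ({d} : Set G)) →* Cfsg.PSU 6 F 2}

theorem rankClasses [Finite G] (hS : Setup π) : ∃ cls, Fischer3T60.RankClasses d (pre π (rad e)) cls := by
  classical
  obtain ⟨φ, hφ, hφ0, hinj, hsurj, htr⟩ := exists_enum hF hfr
  set cls : Fin 3 → Set G := fun i => {a | ∃ c : ↥(Subgroup.centralizer ({d} : Set G)),
    (c : G) = a ∧ ∃ n ∈ rankSet (i.1 + 1), π c = φ n} with hcls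
  have hz := hS.cover.map_z
  have hne : ∀ i, ∀ c : ↥(Subgroup.centralizer ({d} : Set G)), π c = 1 → (c : G) ∉ cls i := by
    rintro i c hc ⟨c', hc', n, hn, hπ⟩
    obtain rfl : c' = c := Subtype.ext hc'
    obtain ⟨h1, h0, -⟩ := mem_rankSet.1 hn
    exact h0 (hinj n h1 0 (by norm_num) (by rw [hφ0, ← hπ, hc]))
  refine ⟨cls, ?_, ?_, fun i => ⟨hne i 1 (map_one π), hne i (zel d) hz⟩, ?_, ?_, ?_, ?_⟩
  · rintro i _ ⟨c, rfl, n, -, hn⟩
    exact ⟨c, show π c ∈ rad e by rw [hn]; exact hφ n, rfl⟩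
  · rintro _ ⟨c, hc, rfl⟩ h1 hd
    obtain ⟨n, hn, hπ⟩ := hsurj _ hc
    have hn0 : n ≠ 0 := fun h0 => by
      subst h0
      rcases hS.cover.ker c (hπ.symm.trans hφ0) with rfl | rfl
      exacts [h1 rfl, hd rfl]
    rcases rnk_cases ⟨n, hn⟩ hn0 with h | h | h
    exacts [⟨0, c, rfl, n, mem_rankSet.2 ⟨hn, hn0, h⟩, hπ.symm⟩, ⟨1, c, rfl, n, mem_rankSet.2 ⟨hn, hn0, h⟩, hπ.symm⟩,
      ⟨2, c, rfl, n, mem_rankSet.2 ⟨hn, hn0, h⟩, hπ.symm⟩]
  · rintro i _ ⟨c, rfl, n, hn, hπ⟩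
    exact ⟨c * zel d, rfl, n, hn, by rw [map_mul, hz, mul_one, hπ]⟩
  · rintro i j _ ⟨c, rfl, n, hn, hπ⟩ ⟨c', hc', n', hn', hπ'⟩
    obtain rfl : c' = c := Subtype.ext hc'
    obtain ⟨h1, -, hr⟩ := mem_rankSet.1 hn
    obtain ⟨h1', -, hr'⟩ := mem_rankSet.1 hn'
    obtain rfl := hinj n h1 n' h1' (hπ.symm.trans hπ')
    exact Fin.ext (by omega)
  · intro i
    choose L hL using hS.cover.surj
    let g : ℕ × Bool → G := fun p => if p.2 then (L (φ p.1) : G) * d else (L (φ p.1) : G)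
    have himg : cls i = g '' ((↑(rankSet (i.1 + 1)) : Set ℕ) ×ˢ (Set.univ : Set Bool)) := by
      ext a
      constructor
      · rintro ⟨c, rfl, n, hn, hπ⟩
        rcases hS.lift_cases (c := c) (c' := L (φ n)) (hπ.trans (hL _).symm) with h | h
        · exact ⟨(n, false), ⟨hn, trivial⟩, by simp [g, h]⟩
        · exact ⟨(n, true), ⟨hn, trivial⟩, by simp [g, h]⟩
      · rintro ⟨⟨n, b⟩, ⟨hn, -⟩, rfl⟩
        cases b
        · exact ⟨L (φ n), by simp [g], n, hn, hL _⟩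
        · exact ⟨L (φ n) * zel d, by simp [g, zel], n, hn, by rw [map_mul, hz, mul_one, hL]⟩
    rw [himg, Set.ncard_image_of_injOn, Set.ncard_prod, Set.ncard_coe_finset, Set.ncard_univ]
    · obtain ⟨r1, r2, r3⟩ := rankSet_card
      fin_cases i <;> simp [r1, r2, r3]
    · rintro ⟨n, b⟩ ⟨hn, -⟩ ⟨m, b'⟩ ⟨hm, -⟩ h
      have hnm : n = m := by
        refine hinj n (mem_rankSet.1 hn).1 m (mem_rankSet.1 hm).1 ?_
        have h' : (if b then L (φ n) * zel d else L (φ n)) = (if b' then L (φ m) * zel d else L (φ m)) :=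
          Subtype.ext (by cases b <;> cases b' <;> simpa [g, zel] using h)
        have := congrArg π h'
        cases b <;> cases b' <;> simpa [hz, hL] using this
      subst hnm
      cases b <;> cases b' <;> first
        | rfl
        | simp [g, hS.ne] at h
  · rintro i _ ⟨c, rfl, n, hn, hπ⟩ _ ⟨c', rfl, m, hm, hπ'⟩
    obtain ⟨g, hg, hgnm⟩ := htr _ n hn m hm
    obtain ⟨k, rfl⟩ := hS.cover.surj g
    have hk : (k : G) ∈ Subgroup.centralizer ({d} : Set G) ⊓ Subgroup.normalizer (pre π (rad e) : Set G) := by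
      rw [hS.normalizer_eq hF hfr]
      exact ⟨k, hg, rfl⟩
    refine ⟨k, hk.2, Subgroup.mem_centralizer_singleton_iff.1 k.2, ?_⟩
    exact hS.lift_cases (c := k * c * k⁻¹) (c' := c') (by rw [map_mul, map_mul, map_inv, hπ, hπ', hgnm])

end Cfsg.Agent.Lib.Fischer3T52.Radical
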