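import Cfsg.Agent.Lib.Fischer3T52.Radical.Flag
import Cfsg.Agent.Lib.Fischer3T52.Radical.Check
import Cfsg.Agent.Lib.M22Struct66.InvolModel

/-!
# `PSU₆(2)`: the elementary abelian subgroups of order at least `2^9` are the radicals of planes
-/

set_option autoImplicit false
set_option linter.unusedSectionVars false

namespace Cfsg.Agent.Lib.Fischer3T52.Radical

open Cfsg Cfsg.Agent.Lib.PSUAut Cfsg.Agent.Lib.ThreeTransp.PSUSix Cfsg.Agent.Lib.M22Struct66

theorem card_filter_range (p : ℕ → Bool) :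
    ((Finset.range 512).filter fun n => p n = true).card = (List.range 512).countP p := by
  rw [List.countP_eq_length_filter]
  simp [Finset.card, Finset.range, Multiset.range]

/-- A non-zero involutory unitriangular matrix fixes at most 32. -/
theorem fix_any (a b c : Fin 4) (hac : a = 0 ∨ c = 0) (hne : ¬ (a = 0 ∧ b = 0 ∧ c = 0)) :
    fixCount a b c ≤ 32 := by
  rcases hac with rfl | rfl
  · fin_cases c
    exacts [fix_0_0 b hne, fix_0_1 b hne, fix_0_2 b hne, fix_0_3 b hne]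
  · fin_cases a
    exacts [fix_0_0 b hne, fix_1_0 b hne, fix_2_0 b hne, fix_3_0 b hne]

variable {F : Type} [Field F] [Fintype F]

local notation "V" => (Fin 6 → F)
local notation "B" => Cfsg.hermForm 6 F 2
local notation "SU6" => (SUType 6 F 2)

variable (hF : Fintype.card F = 4) {e f : Fin 3 → Fin 6 → F} (hfr : IsFrame e f)
include hF hfr

theorem code_fixed {ω : F} (hω : ω ^ 2 + ω + 1 = 0) {k s : SU6} (hk : k ∈ fixM e) (hcomm : s * k = k * s)
    {a b c : Fin 4} (hs : Acts e s (el ω a) (el ω b) (el ω c)) {x : Hm}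
    (hx : ∀ i j, xm f k i j = mat ω x i j) : hcong (uni a b c) x = x := by
  refine hcong_eq hF hω fun i j => ?_
  have hconj : s * k * s⁻¹ = k := by rw [hcomm, mul_inv_cancel_right]
  rw [← hx i j]
  conv_lhs => rw [← hconj]
  rw [xm_conj hF hfr (flag_le hF hfr ⟨_, _, _, hs⟩) hk, acts_gm hF hfr hs]
  have hu : ∀ p q : Fin 3,
      (![![1, el ω a, el ω b], ![0, 1, el ω c], ![0, 0, 1]] : Fin 3 → Fin 3 → F) p q = el ω (uni a b c p q) := by
    intro p q; fin_cases p <;> fin_cases q <;> simp [uni, el]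
  simp only [hu, hx]

/-- A bound for a set of members of the radical through a property of their codes. -/
theorem card_le_count {ω : F} (hω : ω ^ 2 + ω + 1 = 0) (S : Set SU6) (hS : ∀ k ∈ S, k ∈ fixM e) (p : ℕ → Bool)
    (hp : ∀ k ∈ S, ∀ x : Hm, (∀ i j, xm f k i j = mat ω x i j) → p (ecd x) = true) :
    Nat.card ↥S ≤ (List.range 512).countP p := by
  rw [← card_filter_range, ← Nat.card_eq_finsetCard]
  choose code hcode using fun k : ↥S => exists_code hF hfr ω hω (hS k.1 k.2)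
  refine Nat.card_le_card_of_injective (fun k => ⟨ecd (code k), by
    rw [Finset.mem_filter, Finset.mem_range]; exact ⟨ecd_lt _, hp k.1 k.2 _ (hcode k)⟩⟩) fun k l hkl => ?_
  have h1 : code k = code l := by
    rw [← dcd_ecd (code k), ← dcd_ecd (code l), show ecd (code k) = ecd (code l) from congrArg Subtype.val hkl]
  exact Subtype.ext (xm_inj hF hfr (hS k.1 k.2) (hS l.1 l.2) fun i j => by rw [hcode, hcode, h1])

/-- Inside the flag group, an elementary abelian subgroup of order at least `2^9` is the radical. -/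
theorem eq_rad_of_le {E : Subgroup (Cfsg.PSU 6 F 2)} (hE : E ≤ pflag e) (hsq : ∀ x ∈ E, x * x = 1)
    (hcard : 512 ≤ Nat.card ↥E) : E = rad e := by
  obtain ⟨ω, hω⟩ := exists_omega hF
  set S : Subgroup SU6 := E.comap proj ⊓ flag e with hSdef
  have hmem : ∀ {s : SU6}, s ∈ S → proj s ∈ E ∧ s ∈ flag e := fun h => h
  have hcardS : Nat.card ↥S = Nat.card ↥E := by
    refine Nat.card_congr (Equiv.ofBijective (fun s : ↥S => (⟨proj s.1, (hmem s.2).1⟩ : ↥E))
      ⟨fun s t h => Subtype.ext (proj_flag_inj hF hfr (hmem s.2).2 (hmem t.2).2 (congrArg Subtype.val h)),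
        fun x => ?_⟩)
    obtain ⟨s, hs, e0⟩ := hE x.2
    exact ⟨⟨s, show proj s ∈ E by rw [e0]; exact x.2, hs⟩, Subtype.ext e0⟩
  have hS2 : ∀ s ∈ S, s * s = 1 := fun s hs => proj_flag_inj hF hfr (mul_mem (hmem hs).2 (hmem hs).2)
    (one_mem _) (by rw [map_mul, map_one]; exact hsq _ (hmem hs).1)
  have hScomm : ∀ s ∈ S, ∀ t ∈ S, s * t = t * s := fun s hs t ht => by
    have hinv : ∀ u ∈ S, u⁻¹ = u := fun u hu => inv_eq_of_mul_eq_one_right (hS2 u hu)
    calc s * t = (s * t)⁻¹ := (hinv _ (mul_mem hs ht)).symm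
      _ = t * s := by rw [_root_.mul_inv_rev, hinv s hs, hinv t ht]
  let φ : ↥S → F × F × F := fun s => (gm e f s.1 0 1, gm e f s.1 0 2, gm e f s.1 1 2)
  have hφ : ∀ s : ↥S, Acts e s.1 (φ s).1 (φ s).2.1 (φ s).2.2 := fun s => acts_of_flag hF hfr (hmem s.2).2
  have hac : ∀ s t : ↥S, (φ s).1 * (φ t).2.2 = (φ t).1 * (φ s).2.2 := fun s t => by
    have h1 := acts_mul (hφ s) (hφ t)
    rw [hScomm s.1 s.2 t.1 t.2] at h1
    obtain ⟨-, h2, -⟩ := acts_unique hF hfr h1 (acts_mul (hφ t) (hφ s))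
    linear_combination h2
  have hac0 : ∀ s : ↥S, (φ s).1 * (φ s).2.2 = 0 := fun s => by
    have h1 := acts_mul (hφ s) (hφ s)
    rw [hS2 s.1 s.2] at h1
    obtain ⟨-, h2, -⟩ := acts_unique hF hfr h1 (show Acts e (1 : SU6) 0 0 0 by simp [Acts, act_one])
    linear_combination h2 - add_self' hF (φ s).2.1
  set K : Set SU6 := {k | k ∈ S ∧ k ∈ fixM e} with hK
  have hfix : ∀ (s : ↥S) (a b c : Fin 4), φ s = (el ω a, el ω b, el ω c) → ∀ k ∈ K, ∀ x : Hm,
      (∀ i j, xm f k i j = mat ω x i j) → hcong (uni a b c) x = x := fun s a b c hs k hk x hx => by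
    have h1 := hφ s
    rw [hs] at h1
    exact code_fixed hF hfr hω hk.2 (hScomm _ s.2 _ hk.1) h1 hx
  have hK32 : ∀ s : ↥S, φ s ≠ 0 → Nat.card ↥K ≤ 32 := fun s hs => by
    obtain ⟨a, ha⟩ := el_surj hF hω (φ s).1
    obtain ⟨b, hb⟩ := el_surj hF hω (φ s).2.1
    obtain ⟨c, hc⟩ := el_surj hF hω (φ s).2.2
    have hs' : φ s = (el ω a, el ω b, el ω c) := by rw [ha, hb, hc]
    refine (card_le_count hF hfr hω K (fun k hk => hk.2) (fun n => hcong (uni a b c) (dcd n) == dcd n)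
      fun k hk x hx => by simp [dcd_ecd, hfix s a b c hs' k hk x hx]).trans (fix_any a b c ?_ ?_)
    · have := hac0 s
      rw [hs'] at this
      exact (mul_eq_zero.1 this).imp (el_eq_zero hF hω) (el_eq_zero hF hω)
    · rintro ⟨rfl, rfl, rfl⟩
      exact hs hs'
  have hprod : Nat.card ↥S ≤ (Set.range φ).ncard * Nat.card ↥K := by
    rw [← Nat.card_coe_set_eq, ← Nat.card_prod]
    choose r hr using fun p : ↥(Set.range φ) => p.2
    have hker : ∀ s : ↥S, (r ⟨φ s, s, rfl⟩).1⁻¹ * s.1 ∈ K := fun s => by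
      refine ⟨mul_mem (inv_mem (r _).2) s.2, fun i => ?_⟩
      have h1 := hφ (r ⟨φ s, s, rfl⟩)
      rw [hr] at h1
      have hi : act s.1 (e i) = act (r ⟨φ s, s, rfl⟩).1 (e i) := by
        fin_cases i
        exacts [(hφ s).1.trans h1.1.symm, (hφ s).2.1.trans h1.2.1.symm, (hφ s).2.2.trans h1.2.2.symm]
      rw [act_mul, hi, act_inv_cancel']
    refine Nat.card_le_card_of_injective
      (fun s : ↥S => ((⟨φ s, s, rfl⟩ : ↥(Set.range φ)), (⟨_, hker s⟩ : ↥K))) fun s t hst => ?_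
    simp only [Prod.mk.injEq] at hst
    have h2 := congrArg Subtype.val hst.2
    simp only [hst.1] at h2
    exact Subtype.ext (mul_left_cancel h2)
  by_cases hall : ∀ s : ↥S, φ s = 0
  · have hle : E ≤ rad e := fun x hx => by
      obtain ⟨s, hs, rfl⟩ := hE hx
      have hsS : s ∈ S := ⟨hx, hs⟩
      have h1 := hφ ⟨s, hsS⟩
      rw [hall] at h1
      exact ⟨s, mem_fixM_of_acts hF hfr h1, rfl⟩
    exact Subgroup.eq_of_le_of_card_ge hle (by rw [card_rad hF hfr]; exact hcard)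
  exfalso
  push Not at hall
  obtain ⟨s₀, hs₀⟩ := hall
  have hK' := hK32 s₀ hs₀
  have key : ∀ (g : Fin 4 × Fin 4 → F × F × F) (a₁ a₂ a₃ : Fin 4 × Fin 4) (g₁ g₂ g₃ : Fin 4 × Fin 4 × Fin 4),
      (∀ s, φ s ∈ Set.range g) →
      g a₁ = (el ω g₁.1, el ω g₁.2.1, el ω g₁.2.2) → g a₂ = (el ω g₂.1, el ω g₂.2.1, el ω g₂.2.2) →
      g a₃ = (el ω g₃.1, el ω g₃.2.1, el ω g₃.2.2) →
      fixThree (uni g₁.1 g₁.2.1 g₁.2.2) (uni g₂.1 g₂.2.1 g₂.2.2) (uni g₃.1 g₃.2.1 g₃.2.2) ≤ 16 → False := by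
    intro g a₁ a₂ a₃ g₁ g₂ g₃ hsub h1 h2 h3 h16
    have hg : (Set.range g).ncard ≤ 16 := by
      rw [← Set.image_univ]
      refine (Set.ncard_image_le (Set.toFinite _)).trans ?_
      simp [Set.ncard_univ]
    have hle : Set.range φ ⊆ Set.range g := Set.range_subset_iff.2 hsub
    by_cases heq : Set.range φ = Set.range g
    · have hK16 : Nat.card ↥K ≤ 16 := by
        obtain ⟨s1, e1⟩ : g a₁ ∈ Set.range φ := heq ▸ Set.mem_range_self _
        obtain ⟨s2, e2⟩ : g a₂ ∈ Set.range φ := heq ▸ Set.mem_range_self _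
        obtain ⟨s3, e3⟩ : g a₃ ∈ Set.range φ := heq ▸ Set.mem_range_self _
        refine (card_le_count hF hfr hω K (fun k hk => hk.2) (fun n => hcong (uni g₁.1 g₁.2.1 g₁.2.2) (dcd n) == dcd n
          && hcong (uni g₂.1 g₂.2.1 g₂.2.2) (dcd n) == dcd n && hcong (uni g₃.1 g₃.2.1 g₃.2.2) (dcd n) == dcd n)
          fun k hk x hx => ?_).trans h16
        simp [dcd_ecd, hfix s1 _ _ _ (e1.trans h1) k hk x hx, hfix s2 _ _ _ (e2.trans h2) k hk x hx,
          hfix s3 _ _ _ (e3.trans h3) k hk x hx]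
      have := Nat.mul_le_mul (heq ▸ hg) hK16
      omega
    · have hlt := Set.ncard_lt_ncard (hle.ssubset_of_ne heq) (Set.toFinite _)
      have := Nat.mul_le_mul (show (Set.range φ).ncard ≤ 15 by omega) hK'
      omega
  by_cases hc : ∀ s : ↥S, (φ s).2.2 = 0
  · refine key (fun p => (el ω p.1, el ω p.2, el ω 0)) (1, 0) (2, 0) (0, 1) (1, 0, 0) (2, 0, 0) (0, 1, 0)
      (fun s => ?_) rfl rfl rfl fix_row
    obtain ⟨a, ha⟩ := el_surj hF hω (φ s).1
    obtain ⟨b, hb⟩ := el_surj hF hω (φ s).2.1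
    exact ⟨(a, b), by simp [ha, hb, ← hc s, el_zero]⟩
  · push Not at hc
    obtain ⟨t, ht⟩ := hc
    have ht0 : (φ t).1 = 0 := (mul_eq_zero.1 (hac0 t)).resolve_right ht
    refine key (fun p => (el ω 0, el ω p.2, el ω p.1)) (1, 0) (2, 0) (0, 1) (0, 0, 1) (0, 0, 2) (0, 1, 0)
      (fun s => ?_) rfl rfl rfl fix_col
    have hs0 : (φ s).1 = 0 := by
      have := hac s t
      rw [ht0, zero_mul] at this
      exact (mul_eq_zero.1 this).resolve_right ht
    obtain ⟨c, hc⟩ := el_surj hF hω (φ s).2.2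
    obtain ⟨b, hb⟩ := el_surj hF hω (φ s).2.1
    exact ⟨(c, b), by simp [hc, hb, ← hs0, el_zero]⟩

/-- The Sylow 2-subgroup. -/
noncomputable def sylowFlag : Sylow 2 (Cfsg.PSU 6 F 2) :=
  Sylow.ofCard (pflag e) (by
    rw [card_pflag hF hfr, card_psu6 hF, show (9196830720 : ℕ) = 2 ^ 15 * 280665 by norm_num,
      Nat.factorization_mul (by norm_num) (by norm_num), Nat.Prime.factorization_pow Nat.prime_two]
    simp [Nat.factorization_eq_zero_of_not_dvd (show ¬ 2 ∣ 280665 by norm_num)])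

theorem coe_sylowFlag : ((sylowFlag hF hfr : Sylow 2 (Cfsg.PSU 6 F 2)) : Subgroup (Cfsg.PSU 6 F 2)) = pflag e :=
  rfl

/-- An elementary abelian subgroup of order at least `2^9` is conjugate to the radical. -/
theorem exists_conj_rad {E : Subgroup (Cfsg.PSU 6 F 2)} (hsq : ∀ x ∈ E, x * x = 1) (hcard : 512 ≤ Nat.card ↥E) :
    ∃ g : Cfsg.PSU 6 F 2, ∀ x, x ∈ E ↔ g * x * g⁻¹ ∈ rad e := by
  have := fact_two (F := F) hF
  have hp : IsPGroup 2 ↥E := fun x => ⟨1, Subtype.ext (by simpa [pow_two] using hsq x.1 x.2)⟩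
  obtain ⟨Q, hQ⟩ := hp.exists_le_sylow
  obtain ⟨g, hg⟩ := MulAction.exists_smul_eq (Cfsg.PSU 6 F 2) Q (sylowFlag hF hfr)
  have hQ' : ∀ x ∈ E, g * x * g⁻¹ ∈ pflag e := fun x hx => by
    rw [← coe_sylowFlag hF hfr, ← hg]
    exact Subgroup.smul_mem_pointwise_smul x (MulAut.conj g) _ (hQ hx)
  have h := eq_rad_of_le hF hfr (E := E.map (MulAut.conj g).toMonoidHom) (by
      rintro _ ⟨x, hx, rfl⟩; exact hQ' x hx) (by
      rintro _ ⟨x, hx, rfl⟩; rw [← map_mul, hsq x hx, map_one]) (by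
      rw [Subgroup.card_map_of_injective (MulAut.conj g).injective]; exact hcard)
  refine ⟨g, fun x => ⟨fun hx => h ▸ ⟨x, hx, rfl⟩, fun hx => ?_⟩⟩
  rw [← h] at hx
  obtain ⟨y, hy, hyx⟩ := hx
  rwa [(MulAut.conj g).injective (show MulAut.conj g y = MulAut.conj g x from hyx)] at hy

/-- Two radicals are conjugate. -/
theorem exists_conj_rad_frame {e' f' : Fin 3 → V} (hfr' : IsFrame e' f') :
    ∃ g : Cfsg.PSU 6 F 2, ∀ x, x ∈ rad e' ↔ g * x * g⁻¹ ∈ rad e :=
  exists_conj_rad hF hfr (rad_sq hF hfr') (le_of_eq (card_rad hF hfr').symm)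

/-- An involution is conjugate into the radical. -/
theorem exists_conj_mem {x : Cfsg.PSU 6 F 2} (hx : x * x = 1) : ∃ g : Cfsg.PSU 6 F 2, g * x * g⁻¹ ∈ rad e := by
  suffices h : ∃ e' f' : Fin 3 → V, IsFrame e' f' ∧ x ∈ rad e' by
    obtain ⟨e', f', hfr', hm⟩ := h
    obtain ⟨g, hg⟩ := exists_conj_rad_frame hF hfr hfr'
    exact ⟨g, (hg x).1 hm⟩
  have h := herm (n := 6) (card' hF)
  by_cases hx1 : x = 1
  · exact ⟨e, f, hfr, hx1 ▸ one_mem _⟩
  rcases invol_decomp hF hx hx1 with ⟨a, ha, rfl⟩ | ⟨a, b, ha, hb, hab, hne, rfl⟩ | ⟨e', f', hfr', rfl⟩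
  · obtain ⟨e', f', hfr', he⟩ := exists_frame_one hF ha.1 ha.2
    exact ⟨e', f', hfr', he ▸ mem_rad_point hF hfr' (inM_left hF hfr' 0)⟩
  · have hind : ∀ t : F, b ≠ t • a := fun t e0 => by
      by_cases ht : t = 0
      · exact hb.1 (by rw [e0, ht, zero_smul])
      · exact hne (by rw [e0, T_smul hF ha.2 ht])
    obtain ⟨e', f', c, hfr', he0, he1⟩ := exists_frame_orth hF ha.1 ha.2 hb.2 (orth_symm h hab) hind
    refine ⟨e', f', hfr', mul_mem (he0 ▸ mem_rad_point hF hfr' (inM_left hF hfr' 0)) (mem_rad_point hF hfr' ?_)⟩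
    rw [he1, ← he0]
    intro j
    simp [h.add_left, h.smul_left, hfr'.ee]
  · exact ⟨e', f', hfr', mul_mem (mul_mem (mem_rad_point hF hfr' (inM_left hF hfr' 0))
      (mem_rad_point hF hfr' (inM_left hF hfr' 1))) (mem_rad_point hF hfr' (inM_left hF hfr' 2))⟩

end Cfsg.Agent.Lib.Fischer3T52.Radical
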