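import Cfsg.Agent.Lib.Fischer3T52.Radical.Classify
import Cfsg.Agent.Lib.Fischer3T52.LiftPSU

/-!
# Preimages of the plane radicals in a double cover of `PSU₆(2)` realised as an involution centraliser
-/

set_option autoImplicit false
set_option linter.unusedSectionVars false

namespace Cfsg.Agent.Lib.Fischer3T52.Radical

open Cfsg Cfsg.Agent.Lib.PSUAut Cfsg.Agent.Lib.ThreeTransp.PSUSix Cfsg.Agent.Lib.M22Struct66

variable {G : Type*} [Group G] {d : G}

/-- The involution inside its centraliser. -/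
def zel (d : G) : ↥(Subgroup.centralizer ({d} : Set G)) := ⟨d, Subgroup.mem_centralizer_singleton_iff.2 rfl⟩

/-- A double cover of `PSU₆(2)` by the centraliser of `d`. -/
structure Setup {F : Type} [Field F] (π : ↥(Subgroup.centralizer ({d} : Set G)) →* Cfsg.PSU 6 F 2) : Prop where
  sq : d * d = 1
  ne : d ≠ 1
  cover : TwoCover π (zel d)

variable {F : Type} [Field F] [Fintype F] {π : ↥(Subgroup.centralizer ({d} : Set G)) →* Cfsg.PSU 6 F 2}

/-- The preimage in `G` of a subgroup of the quotient. -/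
noncomputable def pre (π : ↥(Subgroup.centralizer ({d} : Set G)) →* Cfsg.PSU 6 F 2)
    (H : Subgroup (Cfsg.PSU 6 F 2)) : Subgroup G :=
  (H.comap π).map (Subgroup.centralizer ({d} : Set G)).subtype

theorem mem_pre {H : Subgroup (Cfsg.PSU 6 F 2)} {x : G} :
    x ∈ pre π H ↔ ∃ c : ↥(Subgroup.centralizer ({d} : Set G)), π c ∈ H ∧ (c : G) = x := Iff.rfl

theorem coe_mem_pre {H : Subgroup (Cfsg.PSU 6 F 2)} {c : ↥(Subgroup.centralizer ({d} : Set G))} :
    (c : G) ∈ pre π H ↔ π c ∈ H :=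
  ⟨fun ⟨c', h, e⟩ => Subtype.ext (p := fun g => g ∈ Subgroup.centralizer ({d} : Set G)) e ▸ h, fun h => ⟨c, h, rfl⟩⟩

theorem pre_le {H : Subgroup (Cfsg.PSU 6 F 2)} : pre π H ≤ Subgroup.centralizer ({d} : Set G) := by
  rintro _ ⟨c, -, rfl⟩
  exact c.2

theorem pre_mono {H K : Subgroup (Cfsg.PSU 6 F 2)} (h : H ≤ K) : pre π H ≤ pre π K :=
  Subgroup.map_mono (Subgroup.comap_mono h)

namespace Setup

variable (hS : Setup π)
include hS

theorem pre_sup (H K : Subgroup (Cfsg.PSU 6 F 2)) : pre π (H ⊔ K) = pre π H ⊔ pre π K := by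
  rw [pre, ← Subgroup.comap_sup_eq π H K hS.cover.surj, Subgroup.map_sup]
  rfl

theorem d_mem (H : Subgroup (Cfsg.PSU 6 F 2)) : d ∈ pre π H :=
  ⟨zel d, show π (zel d) ∈ H by rw [hS.cover.map_z]; exact one_mem H, rfl⟩

theorem zel_ne : zel d ≠ 1 := fun h => hS.ne (congrArg Subtype.val h)

theorem card_ker : Nat.card ↥π.ker = 2 := by
  rw [Nat.card_eq_two_iff]
  refine ⟨1, ⟨zel d, hS.cover.map_z⟩, fun h => hS.zel_ne (congrArg Subtype.val h).symm, ?_⟩
  ext ⟨c, hc⟩
  simp only [Set.mem_insert_iff, Set.mem_singleton_iff, Set.mem_univ, iff_true]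
  rcases hS.cover.ker c hc with rfl | rfl <;> simp

theorem card_centralizer (hF : Fintype.card F = 4) :
    Nat.card ↥(Subgroup.centralizer ({d} : Set G)) = 2 * 9196830720 := by
  rw [← Subgroup.card_mul_index π.ker, hS.card_ker, Subgroup.index_ker,
    MonoidHom.range_eq_top.2 hS.cover.surj, Subgroup.card_top, card_psu6 hF]

theorem card_pre (H : Subgroup (Cfsg.PSU 6 F 2)) : Nat.card ↥(pre π H) = 2 * Nat.card ↥H := by
  rw [pre, Subgroup.card_map_of_injective Subtype.val_injective]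
  let f : ↥(H.comap π) →* Cfsg.PSU 6 F 2 := π.comp (H.comap π).subtype
  have hr : f.range = H := by
    ext x
    constructor
    · rintro ⟨c, rfl⟩; exact c.2
    · intro hx
      obtain ⟨c, rfl⟩ := hS.cover.surj x
      exact ⟨⟨c, hx⟩, rfl⟩
  have hk : Nat.card ↥f.ker = 2 := by
    refine (Nat.card_congr (β := ↥π.ker) ⟨fun c => ⟨c.1.1, c.2⟩,
      fun c => ⟨⟨c.1, show π c.1 ∈ H by rw [c.2]; exact one_mem H⟩, c.2⟩, fun _ => rfl, fun _ => rfl⟩).trans hS.card_ker
  rw [← Subgroup.card_mul_index f.ker, hk, Subgroup.index_ker, hr]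

theorem lift_cases {c c' : ↥(Subgroup.centralizer ({d} : Set G))} (h : π c = π c') :
    (c : G) = c' ∨ (c : G) = (c' : G) * d := by
  rcases hS.cover.eq_or c c' h with rfl | rfl
  exacts [Or.inl rfl, Or.inr rfl]

theorem mem_normalizer {H : Subgroup (Cfsg.PSU 6 F 2)} {c : ↥(Subgroup.centralizer ({d} : Set G))}
    (h : ∀ y, y ∈ H ↔ π c * y * (π c)⁻¹ ∈ H) : (c : G) ∈ Subgroup.normalizer (pre π H : Set G) := by
  refine Subgroup.mem_normalizer_iff.2 fun x => ⟨?_, fun hx => ?_⟩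
  · rintro ⟨y, hy, rfl⟩
    exact ⟨c * y * c⁻¹, show π (c * y * c⁻¹) ∈ H by rw [map_mul, map_mul, map_inv]; exact (h _).1 hy, rfl⟩
  · obtain ⟨y, hy, hxy⟩ := hx
    refine ⟨c⁻¹ * y * c, show π (c⁻¹ * y * c) ∈ H from (h _).2 ?_, ?_⟩
    · rw [map_mul, map_mul, map_inv, show π c * ((π c)⁻¹ * π y * π c) * (π c)⁻¹ = π y by group]
      exact hy
    · show (c : G)⁻¹ * (y : G) * c = x
      rw [show (y : G) = (c : G) * x * (c : G)⁻¹ from hxy]
      group

variable (hF : Fintype.card F = 4) {e f : Fin 3 → Fin 6 → F} (hfr : IsFrame e f)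
include hF hfr

theorem comap_rad_comm {c c' : ↥(Subgroup.centralizer ({d} : Set G))} (hc : π c ∈ rad e) (hc' : π c' ∈ rad e) :
    c * c' = c' * c := by
  obtain ⟨l, hl, hlp⟩ := exists_list hF hfr hc
  obtain ⟨m, hm, hmp⟩ := exists_list hF hfr hc'
  choose L hL using hS.cover.surj
  have hT := hS.cover
  have key : Commute (l.map L).prod (m.map L).prod := by
    refine Commute.list_prod_left _ _ fun a ha => Commute.list_prod_right _ _ fun b hb => ?_
    obtain ⟨u, hu, rfl⟩ := List.mem_map.1 ha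
    obtain ⟨v, hv, rfl⟩ := List.mem_map.1 hb
    exact points_comm' hF hT (hl u hu).1 (hm v hv).1 (rad_comm hF hfr u (hl u hu).2 v (hm v hv).2) _ _
      (hL u) (hL v)
  have he : ∀ (l : List (Cfsg.PSU 6 F 2)), π (l.map L).prod = l.prod := fun l => by
    rw [map_list_prod, List.map_map]; simp [Function.comp_def, hL]
  exact (hT.liftComm_iff ((he l).trans hlp) ((he m).trans hmp)).2 key c c' rfl rfl

theorem comap_rad_sq {c : ↥(Subgroup.centralizer ({d} : Set G))} (hc : π c ∈ rad e) : c * c = 1 := by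
  obtain ⟨l, hl, hlp⟩ := exists_list hF hfr hc
  obtain ⟨y, hy, hy2⟩ := hS.cover.exists_sq_lift (l := l)
    (fun u hu v hv => points_comm' hF hS.cover (hl u hu).1 (hl v hv).1 (rad_comm hF hfr u (hl u hu).2 v (hl v hv).2))
    (fun u hu => points_sq hF hS.cover (hl u hu).1)
  exact (hS.cover.liftSq_iff (hy.trans hlp)).2 hy2 c rfl

theorem pre_rad_sq : ∀ a ∈ pre π (rad e), a * a = 1 := by
  rintro _ ⟨c, hc, rfl⟩
  exact congrArg Subtype.val (hS.comap_rad_sq hF hfr hc)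

theorem card_pre_rad : Nat.card ↥(pre π (rad e)) = 2 ^ 10 := by
  rw [hS.card_pre, card_rad hF hfr]; norm_num

theorem self_centralizing {g : G} (hg : ∀ a ∈ pre π (rad e), g * a = a * g) : g ∈ pre π (rad e) := by
  have hgC : g ∈ Subgroup.centralizer ({d} : Set G) :=
    Subgroup.mem_centralizer_singleton_iff.2 (hg d (hS.d_mem _))
  refine ⟨⟨g, hgC⟩, mem_rad_of_commute hF hfr fun y hy => ?_, rfl⟩
  obtain ⟨c, rfl⟩ := hS.cover.surj y
  rw [← map_mul, ← map_mul]
  exact congrArg π (Subtype.ext (hg _ ⟨c, hy, rfl⟩))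

omit hfr in
/-- The image of an elementary abelian subgroup of the cover. -/
theorem image_facts [Finite G] {B : Subgroup ↥(Subgroup.centralizer ({d} : Set G))} (hsq : ∀ b ∈ B, b * b = 1) :
    (∀ x ∈ B.map π, x * x = 1) ∧ Nat.card ↥B ≤ 2 * Nat.card ↥(B.map π) := by
  refine ⟨?_, ?_⟩
  · rintro _ ⟨b, hb, rfl⟩
    rw [← map_mul, hsq b hb, map_one]
  · rw [← hS.card_pre, pre, Subgroup.card_map_of_injective Subtype.val_injective]
    exact Subgroup.card_le_of_le (Subgroup.le_comap_map π B)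

theorem card_le {B : Subgroup ↥(Subgroup.centralizer ({d} : Set G))} [Finite G] (hsq : ∀ b ∈ B, b * b = 1) :
    Nat.card ↥B ≤ 2 ^ 10 := by
  obtain ⟨h1, h2⟩ := hS.image_facts hF hsq
  by_cases h : 512 ≤ Nat.card ↥(B.map π)
  · obtain ⟨g, hg⟩ := exists_conj_rad hF hfr h1 h
    have : Nat.card ↥(B.map π) ≤ 512 := by
      rw [← card_rad hF hfr]
      exact Nat.card_le_card_of_injective (fun x => ⟨g * x.1 * g⁻¹, (hg _).1 x.2⟩) fun x y hxy => by
        simpa using congrArg Subtype.val hxy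
    omega
  · omega

/-- Elementary abelian subgroups of order `2^10` through `d` are conjugate under the centraliser. -/
theorem exists_conj_pre [Finite G] {B : Subgroup G} (hd : d ∈ B) (hsq : ∀ b ∈ B, b * b = 1)
    (hcard : Nat.card ↥B = 2 ^ 10) :
    ∃ c : G, c * d = d * c ∧ ∀ b : G, b ∈ B ↔ c * b * c⁻¹ ∈ pre π (rad e) := by
  have hcomm : ∀ a ∈ B, ∀ b ∈ B, a * b = b * a := fun a ha b hb => by
    have hinv : ∀ u ∈ B, u⁻¹ = u := fun u hu => inv_eq_of_mul_eq_one_right (hsq u hu)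
    calc a * b = (a * b)⁻¹ := (hinv _ (mul_mem ha hb)).symm
      _ = b * a := by rw [_root_.mul_inv_rev, hinv a ha, hinv b hb]
  have hBC : B ≤ Subgroup.centralizer ({d} : Set G) := fun b hb =>
    Subgroup.mem_centralizer_singleton_iff.2 (hcomm b hb d hd)
  set B' := B.subgroupOf (Subgroup.centralizer ({d} : Set G))
  have hB'card : Nat.card ↥B' = 2 ^ 10 := by
    rw [Nat.card_congr (Subgroup.subgroupOfEquivOfLe hBC).toEquiv, hcard]
  have hB'sq : ∀ b ∈ B', b * b = 1 := fun b hb => Subtype.ext (hsq b.1 hb)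
  obtain ⟨h1, h2⟩ := hS.image_facts hF hB'sq
  obtain ⟨g, hg⟩ := exists_conj_rad hF hfr h1 (by omega)
  obtain ⟨c, rfl⟩ := hS.cover.surj g
  have hback : ∀ x : ↥(Subgroup.centralizer ({d} : Set G)), π x ∈ B'.map π → (x : G) ∈ B := by
    rintro x ⟨b, hb, hbx⟩
    rcases hS.lift_cases hbx.symm with h | h <;> rw [h]
    exacts [hb, mul_mem hb hd]
  refine ⟨c, Subgroup.mem_centralizer_singleton_iff.1 c.2, fun b => ⟨fun hb => ?_, fun hb => ?_⟩⟩
  · refine ⟨c * ⟨b, hBC hb⟩ * c⁻¹, show π (c * ⟨b, hBC hb⟩ * c⁻¹) ∈ rad e from ?_, rfl⟩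
    rw [map_mul, map_mul, map_inv]
    exact (hg _).1 ⟨⟨b, hBC hb⟩, hb, rfl⟩
  · obtain ⟨y, hy, hyb⟩ := hb
    have hb' : b = ((c⁻¹ * y * c : ↥(Subgroup.centralizer ({d} : Set G))) : G) := by
      show b = (c : G)⁻¹ * (y : G) * c
      rw [show (y : G) = (c : G) * b * (c : G)⁻¹ from hyb]
      group
    rw [hb']
    refine hback _ ((hg _).2 ?_)
    rw [← map_inv, ← map_mul, ← map_mul, show c * (c⁻¹ * y * c) * c⁻¹ = y by group]
    exact hy

theorem normalizer_eq :
    Subgroup.centralizer ({d} : Set G) ⊓ Subgroup.normalizer (pre π (rad e) : Set G) = pre π (nrad e) := by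
  refine le_antisymm ?_ ?_
  · rintro x ⟨hxC, hxN⟩
    refine ⟨⟨x, hxC⟩, mem_nrad hF hfr fun y hy => ?_, rfl⟩
    obtain ⟨c, rfl⟩ := hS.cover.surj y
    rw [← map_inv, ← map_mul, ← map_mul]
    exact coe_mem_pre.1 ((Subgroup.mem_normalizer_iff.1 hxN _).1 ⟨c, hy, rfl⟩)
  · rintro _ ⟨c, hc, rfl⟩
    refine ⟨c.2, hS.mem_normalizer fun y => ⟨fun hy => conj_rad hF hfr hc hy, fun hy => ?_⟩⟩
    have := conj_rad hF hfr ((nrad e).inv_mem hc) hy
    simpa [mul_assoc] using this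

end Setup

end Cfsg.Agent.Lib.Fischer3T52.Radical
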