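import Cfsg.Agent.Lib.Fischer3T52.Radical.Model
import Cfsg.Agent.Lib.M22Struct66.Frame

/-!
# The table of Hermitian matrices against a field of four elements
-/

set_option autoImplicit false

namespace Cfsg.Agent.Lib.Fischer3T52.Radical

open Cfsg Cfsg.Agent.Lib.ThreeTransp.PSUSix Cfsg.Agent.Lib.M22Struct66

variable {F : Type} [Field F] [Fintype F] (hF : Fintype.card F = 4) {ω : F} (hω : ω ^ 2 + ω + 1 = 0)

/-- The coded matrix over the field. -/
def mat (ω : F) (x : Hm) (i j : Fin 3) : F := el ω (hget x i j)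

omit [Fintype F] in
theorem el_zero : el ω 0 = 0 := rfl

omit [Fintype F] in
theorem el_one : el ω 1 = 1 := rfl

include hF hω

theorem el_inj {a b : Fin 4} (h : el ω a = el ω b) : a = b := (el_bijective hF hω).1 h

theorem el_surj (a : F) : ∃ i, el ω i = a := (el_bijective hF hω).2 a

theorem el_eq_zero {a : Fin 4} (h : el ω a = 0) : a = 0 := el_inj hF hω (h.trans el_zero.symm)

theorem el_ad (a b : Fin 4) : el ω (ad4 a b) = el ω a + el ω b := by
  have h2 := add_self' hF (1 : F)
  fin_cases a <;> fin_cases b <;> simp [el, ad4] <;> grobner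

theorem el_ml (a b : Fin 4) : el ω (ml4 a b) = el ω a * el ω b := by
  have h2 := add_self' hF (1 : F)
  fin_cases a <;> fin_cases b <;> simp [el, ml4] <;> grobner

theorem el_cj (a : Fin 4) : el ω (cj4 a) = el ω a ^ 2 := by
  have h2 := add_self' hF (1 : F)
  fin_cases a <;> simp [el, cj4] <;> grobner

theorem el_congEntry (g : Fin 3 → Fin 3 → Fin 4) (x : Hm) (i j : Fin 3) :
    el ω (congEntry g x i j) = ∑ k, ∑ l, el ω (g i k) * mat ω x k l * el ω (g j l) ^ 2 := by
  simp only [congEntry, el_ad hF hω, el_ml hF hω, el_cj hF hω, Fin.sum_univ_three, mat]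

theorem mat_inj {x y : Hm} (h : ∀ i j, mat ω x i j = mat ω y i j) : x = y := by
  have e : ∀ i j, hget x i j = hget y i j := fun i j => el_inj hF hω (h i j)
  have hb : ∀ a b : Bool, bit4 a = bit4 b → a = b := by decide
  obtain ⟨⟨a, b, c⟩, p, q, r⟩ := x
  obtain ⟨⟨a', b', c'⟩, p', q', r'⟩ := y
  have e0 := e 0 0; have e1 := e 1 1; have e2 := e 2 2
  have f0 := e 0 1; have f1 := e 0 2; have f2 := e 1 2
  simp [hget] at e0 e1 e2 f0 f1 f2
  simp [hb _ _ e0, hb _ _ e1, hb _ _ e2, f0, f1, f2]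

theorem hcong_eq {g : Fin 3 → Fin 3 → Fin 4} {x y : Hm}
    (h : ∀ i j, mat ω y i j = ∑ k, ∑ l, el ω (g i k) * mat ω x k l * el ω (g j l) ^ 2) :
    hcong g x = y := by
  have e : ∀ i j, congEntry g x i j = hget y i j := fun i j =>
    el_inj hF hω ((el_congEntry hF hω g x i j).trans (h i j).symm)
  have hb : ∀ a : Bool, (bit4 a == 1) = a := by decide
  obtain ⟨⟨a, b, c⟩, p, q, r⟩ := y
  simp [hcong, e, hget, hb]

end Cfsg.Agent.Lib.Fischer3T52.Radical
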