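import Cfsg.Agent.Lib.Fischer3T52.Radical.Group

/-!
# A Sylow 2-subgroup of `PSU₆(2)`: the flag stabiliser above the radical of a plane
-/

set_option autoImplicit false
set_option linter.unusedSectionVars false

namespace Cfsg.Agent.Lib.Fischer3T52.Radical

open Cfsg Cfsg.Agent.Lib.PSUAut Cfsg.Agent.Lib.ThreeTransp.PSUSix Cfsg.Agent.Lib.M22Struct66

variable {F : Type} [Field F] [Fintype F]

local notation "V" => (Fin 6 → F)
local notation "B" => Cfsg.hermForm 6 F 2
local notation "SU6" => (SUType 6 F 2)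

/-- Unitriangular on the triple, with entries `a, b, c`. -/
def Acts (e : Fin 3 → V) (s : SU6) (a b c : F) : Prop :=
  act s (e 0) = e 0 ∧ act s (e 1) = a • e 0 + e 1 ∧ act s (e 2) = b • e 0 + c • e 1 + e 2

theorem acts_mul {e : Fin 3 → V} {s t : SU6} {a b c a' b' c' : F} (hs : Acts e s a b c)
    (ht : Acts e t a' b' c') : Acts e (s * t) (a + a') (b + b' + a * c') (c + c') := by
  refine ⟨?_, ?_, ?_⟩ <;> simp only [act_mul, ht.1, ht.2.1, ht.2.2, map_add, map_smul, hs.1, hs.2.1, hs.2.2]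
  all_goals module

/-- The unipotent stabiliser of the flag. -/
def flag (e : Fin 3 → V) : Subgroup SU6 where
  carrier := {s | ∃ a b c, Acts e s a b c}
  mul_mem' := fun ⟨_, _, _, hs⟩ ⟨_, _, _, ht⟩ => ⟨_, _, _, acts_mul hs ht⟩
  one_mem' := ⟨0, 0, 0, by simp [Acts, act_one]⟩
  inv_mem' := by
    rintro s ⟨a, b, c, h0, h1, h2⟩
    have key : ∀ {x y : V}, act s x = y → act s⁻¹ y = x := fun h => h ▸ act_inv_cancel' s _
    refine ⟨-a, a * c - b, -c, key h0, key ?_, key ?_⟩
    · simp only [map_add, map_smul, h0, h1]; module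
    · simp only [map_add, map_smul, h0, h1, h2]; module

/-- The flag group in the quotient. -/
noncomputable def pflag (e : Fin 3 → V) : Subgroup (Cfsg.PSU 6 F 2) := (flag e).map proj

/-- The standard representative with given entries. -/
noncomputable def sig (e f : Fin 3 → V) (a b c : F) : SU6 :=
  elel e f 0 2 b * elel e f 1 2 c * elel e f 0 1 a

variable (hF : Fintype.card F = 4) {e f : Fin 3 → Fin 6 → F} (hfr : IsFrame e f)
include hF hfr

theorem fixM_le_flag : fixM e ≤ flag e := fun s hs => ⟨0, 0, 0, by simp [Acts, hs 0, hs 1, hs 2]⟩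

theorem flag_le : flag e ≤ stabM e := by
  rintro s ⟨a, b, c, h0, h1, h2⟩
  have h := herm (n := 6) (card' hF)
  refine mem_stabM hF hfr fun i j => ?_
  fin_cases i <;> simp [h0, h1, h2, h.add_left, h.smul_left, hfr.ee]

theorem acts_gm {s : SU6} {a b c : F} (hs : Acts e s a b c) :
    gm e f s = ![![1, a, b], ![0, 1, c], ![0, 0, 1]] := by
  have h := herm (n := 6) (card' hF)
  funext k i
  fin_cases k <;> fin_cases i <;> simp [gm, hs.1, hs.2.1, hs.2.2, h.add_left, h.smul_left, hfr.ef]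

theorem acts_of_flag {s : SU6} (hs : s ∈ flag e) :
    Acts e s (gm e f s 0 1) (gm e f s 0 2) (gm e f s 1 2) := by
  obtain ⟨a, b, c, h⟩ := hs
  rw [acts_gm hF hfr h]
  simpa using h

theorem acts_unique {s : SU6} {a b c a' b' c' : F} (h : Acts e s a b c) (h' : Acts e s a' b' c') :
    a = a' ∧ b = b' ∧ c = c' := by
  have e1 := (acts_gm hF hfr h).symm.trans (acts_gm hF hfr h')
  exact ⟨by simpa using congrFun (congrFun e1 0) 1, by simpa using congrFun (congrFun e1 0) 2,
    by simpa using congrFun (congrFun e1 1) 2⟩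

theorem mem_fixM_of_acts {s : SU6} (h : Acts e s 0 0 0) : s ∈ fixM e := fun i => by
  fin_cases i
  · exact h.1
  · simpa using h.2.1
  · simpa using h.2.2

theorem sig_acts (a b c : F) : Acts e (sig e f a b c) a b c := by
  have h02 : (0 : Fin 3) ≠ 2 := by decide
  have h12 : (1 : Fin 3) ≠ 2 := by decide
  have h01 : (0 : Fin 3) ≠ 1 := by decide
  refine ⟨?_, ?_, ?_⟩ <;> simp [sig, act_mul, act_elel_e hF hfr h02, act_elel_e hF hfr h12,
    act_elel_e hF hfr h01, act_add hF, act_smul hF] <;> module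

theorem sig_mem (a b c : F) : sig e f a b c ∈ flag e := ⟨a, b, c, sig_acts hF hfr a b c⟩

theorem sig_inM_f (a b c : F) : sig e f a b c ∈ stabM f := by
  have h := herm (n := 6) (card' hF)
  have hel : ∀ {i j : Fin 3}, i ≠ j → ∀ t : F, elel e f i j t ∈ stabM f := by
    intro i j hij t
    have hfr' : IsFrame f e := ⟨hfr.ff, hfr.ee, fun k l => hfr.fe hF k l⟩
    refine mem_stabM hF hfr' fun k l => ?_
    rw [act_elel_f hF hfr hij, h.add_left, h.smul_left, hfr.ff, hfr.ff, mul_zero, add_zero]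
  exact mul_mem (mul_mem (hel (by decide) _) (hel (by decide) _)) (hel (by decide) _)

theorem card_flag : Nat.card ↥(flag e) = 32768 := by
  have hb : Function.Bijective fun p : (F × F × F) × ↥(fixM e) =>
      (⟨sig e f p.1.1 p.1.2.1 p.1.2.2 * p.2, mul_mem (sig_mem hF hfr _ _ _) (fixM_le_flag hF hfr p.2.2)⟩ :
        ↥(flag e)) := by
    constructor
    · rintro ⟨⟨a, b, c⟩, k⟩ ⟨⟨a', b', c'⟩, k'⟩ hk
      have hk : sig e f a b c * k.1 = sig e f a' b' c' * k'.1 := congrArg Subtype.val hk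
      have h0 : ∀ z : ↥(fixM e), Acts e z.1 0 0 0 := fun z => by simp [Acts, z.2 0, z.2 1, z.2 2]
      have h1 := acts_mul (sig_acts hF hfr a b c) (h0 k)
      have h2 := acts_mul (sig_acts hF hfr a' b' c') (h0 k')
      rw [hk] at h1
      obtain ⟨ea, eb, ec⟩ := acts_unique hF hfr h1 h2
      simp at ea eb ec
      subst ea eb ec
      exact Prod.ext rfl (Subtype.ext (mul_left_cancel hk))
    · rintro ⟨s, hs⟩
      obtain ⟨a, b, c, h⟩ := hs
      refine ⟨((a, b, c), ⟨(sig e f a b c)⁻¹ * s, fun i => ?_⟩), Subtype.ext (mul_inv_cancel_left _ _)⟩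
      have hi : act s (e i) = act (sig e f a b c) (e i) := by
        obtain ⟨g0, g1, g2⟩ := sig_acts hF hfr a b c
        fin_cases i
        exacts [h.1.trans g0.symm, h.2.1.trans g1.symm, h.2.2.trans g2.symm]
      rw [act_mul, hi, act_inv_cancel']
  rw [← Nat.card_congr (Equiv.ofBijective _ hb), Nat.card_prod, Nat.card_prod, Nat.card_prod, card_fixM hF hfr,
    Nat.card_eq_fintype_card, hF]

theorem proj_flag_inj {s t : SU6} (hs : s ∈ flag e) (ht : t ∈ flag e) (h : proj s = proj t) : s = t := by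
  obtain ⟨_, _, _, hs⟩ := hs
  obtain ⟨_, _, _, ht⟩ := ht
  exact eq_of_proj_eq₀ hF hfr hs.1 ht.1 h

theorem card_pflag : Nat.card ↥(pflag e) = 32768 := by
  rw [← card_flag hF hfr]
  exact Nat.card_congr ((Equiv.ofBijective (fun s : ↥(flag e) => (⟨proj s.1, s.1, s.2, rfl⟩ : ↥(pflag e)))
    ⟨fun s t h => Subtype.ext (proj_flag_inj hF hfr s.2 t.2 (congrArg Subtype.val h)),
      fun ⟨_, s, hs, e0⟩ => ⟨⟨s, hs⟩, Subtype.ext e0⟩⟩).symm)

theorem rad_le_pflag : rad e ≤ pflag e := Subgroup.map_mono (fixM_le_flag hF hfr)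

theorem pflag_le_nrad : pflag e ≤ nrad e := Subgroup.map_mono (flag_le hF hfr)

end Cfsg.Agent.Lib.Fischer3T52.Radical
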