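import Cfsg.Agent.Lib.Fischer3T52.Radical.Cover
import Cfsg.Agent.Lib.Fischer3T60.Interface

/-!
# A Sylow 2-subgroup of the cover from three radicals: the two Levi elation groups
-/

set_option autoImplicit false
set_option linter.unusedSectionVars false

namespace Cfsg.Agent.Lib.Fischer3T52.Radical

open Cfsg Cfsg.Agent.Lib.PSUAut Cfsg.Agent.Lib.ThreeTransp.PSUSix Cfsg.Agent.Lib.M22Struct66

variable {F : Type} [Field F] [Fintype F]

local notation "V" => (Fin 6 → F)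
local notation "B" => Cfsg.hermForm 6 F 2
local notation "SU6" => (SUType 6 F 2)

/-- The Levi part of the flag group. -/
def levi (e f : Fin 3 → V) : Subgroup SU6 := flag e ⊓ stabM f

/-- Elations with centre the point. -/
def uOne (e f : Fin 3 → V) : Subgroup SU6 := levi e f ⊓ fixM ![e 0, f 1, f 2]

/-- Elations with axis the line. -/
def uTwo (e f : Fin 3 → V) : Subgroup SU6 := levi e f ⊓ fixM ![e 0, e 1, f 2]

/-- The members with last entry zero. -/
def flagC (e : Fin 3 → V) : Subgroup SU6 where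
  carrier := {s | ∃ a b, Acts e s a b 0}
  mul_mem' := fun ⟨_, _, hs⟩ ⟨_, _, ht⟩ => ⟨_, _, by simpa using acts_mul hs ht⟩
  one_mem' := ⟨0, 0, by simp [Acts, act_one]⟩
  inv_mem' := by
    rintro s ⟨a, b, h0, h1, h2⟩
    have key : ∀ {x y : V}, act s x = y → act s⁻¹ y = x := fun h => h ▸ act_inv_cancel' s _
    refine ⟨-a, -b, key h0, key ?_, key ?_⟩
    · simp only [map_add, map_smul, h0, h1]; module
    · simp only [map_add, map_smul, h0, h1, h2]; module

variable (hF : Fintype.card F = 4) {e f : Fin 3 → Fin 6 → F} (hfr : IsFrame e f)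
include hF hfr

theorem frameOne : IsFrame ![e 0, f 1, f 2] ![f 0, e 1, e 2] := by
  refine ⟨?_, ?_, ?_⟩ <;> intro i j <;> fin_cases i <;> fin_cases j <;>
    simp [hfr.ee, hfr.ff, hfr.ef, hfr.fe hF]

theorem frameTwo : IsFrame ![e 0, e 1, f 2] ![f 0, f 1, e 2] := by
  refine ⟨?_, ?_, ?_⟩ <;> intro i j <;> fin_cases i <;> fin_cases j <;>
    simp [hfr.ee, hfr.ff, hfr.ef, hfr.fe hF]

/-- The Levi members move the dual plane by the transpose inverse. -/
theorem levi_fix {s : SU6} {a b c : F} (hs : Acts e s a b c) (hsf : s ∈ stabM f) :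
    (c = 0 → act s (f 1) = f 1) ∧ act s (f 2) = f 2 := by
  have h := herm (n := 6) (card' hF)
  have hfr' : IsFrame f e := ⟨hfr.ff, hfr.ee, fun k l => hfr.fe hF k l⟩
  have hm : ∀ j, InM f (act s (f j)) := fun j => (hsf _).2 (inM_left hF hfr' j)
  have key : ∀ j, B (act s (f j)) (e 0) = (if j = 0 then 1 else 0) ∧
      a ^ 2 * B (act s (f j)) (e 0) + B (act s (f j)) (e 1) = (if j = 1 then 1 else 0) ∧
      b ^ 2 * B (act s (f j)) (e 0) + c ^ 2 * B (act s (f j)) (e 1) + B (act s (f j)) (e 2) =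
        (if j = 2 then 1 else 0) := fun j => by
    refine ⟨?_, ?_, ?_⟩
    · have := act_form s (f j) (e 0)
      rwa [hs.1, hfr.fe hF] at this
    · have := act_form s (f j) (e 1)
      rw [hs.2.1, hfr.fe hF] at this
      simpa [h.add_right, h.smul_right] using this
    · have := act_form s (f j) (e 2)
      rw [hs.2.2, hfr.fe hF] at this
      simpa [h.add_right, h.smul_right] using this
  refine ⟨fun hc => inM_ext hF hfr' (hm 1) (inM_left hF hfr' 1) fun k => ?_,
    inM_ext hF hfr' (hm 2) (inM_left hF hfr' 2) fun k => ?_⟩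
  · obtain ⟨k0, k1, k2⟩ := key 1
    rw [hfr.fe hF]
    simp [hc] at k0 k1 k2
    simp [k0] at k1 k2
    fin_cases k <;> simp [k0, k1, k2]
  · obtain ⟨k0, k1, k2⟩ := key 2
    rw [hfr.fe hF]
    simp at k0 k1 k2
    simp [k0] at k1 k2
    simp [k1] at k2
    fin_cases k <;> simp [k0, k1, k2]

theorem mem_uOne {s : SU6} {a b : F} (hs : Acts e s a b 0) (hsf : s ∈ stabM f) : s ∈ uOne e f := by
  refine ⟨⟨⟨a, b, 0, hs⟩, hsf⟩, fun i => ?_⟩
  have h1 := (levi_fix hF hfr hs hsf).1 rfl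
  fin_cases i
  · exact hs.1
  · exact h1
  · exact (levi_fix hF hfr hs hsf).2

theorem mem_uTwo {s : SU6} {b c : F} (hs : Acts e s 0 b c) (hsf : s ∈ stabM f) : s ∈ uTwo e f := by
  refine ⟨⟨⟨0, b, c, hs⟩, hsf⟩, fun i => ?_⟩
  fin_cases i
  · exact hs.1
  · simpa using hs.2.1
  · exact (levi_fix hF hfr hs hsf).2

theorem uOne_acts {s : SU6} (hs : s ∈ uOne e f) : ∃ a b, Acts e s a b 0 := by
  obtain ⟨⟨⟨a, b, c, h⟩, -⟩, hfix⟩ := hs
  have hm : act s (f 1) = f 1 := hfix 1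
  have := act_form s (e 2) (f 1)
  rw [h.2.2, hm] at this
  have hh := herm (n := 6) (card' hF)
  simp [hh.add_left, hh.smul_left, hfr.ef] at this
  exact ⟨a, b, this ▸ h⟩

theorem conj_uOne {s t : SU6} (hs : s ∈ levi e f) (ht : t ∈ uOne e f) : s * t * s⁻¹ ∈ uOne e f := by
  obtain ⟨a, b, h⟩ := uOne_acts hF hfr ht
  obtain ⟨a', b', c', h'⟩ := hs.1
  obtain ⟨a'', b'', c'', h''⟩ := (levi e f).inv_mem hs |>.1
  have hi := acts_unique hF hfr (acts_mul h' h'')
    (show Acts e (s * s⁻¹) 0 0 0 by simp [Acts, act_one])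
  obtain ⟨-, -, hc⟩ := hi
  have hall := acts_mul (acts_mul h' h) h''
  rw [add_zero, hc] at hall
  exact mem_uOne hF hfr hall (mul_mem (mul_mem hs.2 ht.1.2) ((stabM f).inv_mem hs.2))

theorem uOne_le_rad : (uOne e f).map proj ≤ rad ![e 0, f 1, f 2] := Subgroup.map_mono inf_le_right

theorem uTwo_le_rad : (uTwo e f).map proj ≤ rad ![e 0, e 1, f 2] := Subgroup.map_mono inf_le_right

theorem u_le_pflag : (uOne e f).map proj ≤ pflag e ∧ (uTwo e f).map proj ≤ pflag e :=
  ⟨Subgroup.map_mono (inf_le_left.trans inf_le_left), Subgroup.map_mono (inf_le_left.trans inf_le_left)⟩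

/-- The intersection of the radical times the first elation group with the second. -/
theorem inter_le : (rad e ⊔ (uOne e f).map proj) ⊓ (uTwo e f).map proj ≤
    (uOne e f).map proj ⊓ (uTwo e f).map proj := by
  rintro x ⟨hx, hx2⟩
  refine ⟨?_, hx2⟩
  obtain ⟨t, ht, rfl⟩ := hx2
  have hle : rad e ⊔ (uOne e f).map proj ≤ (flagC e).map proj := by
    rw [rad, ← Subgroup.map_sup]
    refine Subgroup.map_mono (sup_le (fun s hs => ⟨0, 0, by simp [Acts, hs 0, hs 1, hs 2]⟩) fun s hs => ?_)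
    exact uOne_acts hF hfr hs
  obtain ⟨s, ⟨a, b, hs⟩, hst⟩ := hle hx
  obtain rfl := proj_flag_inj hF hfr ⟨a, b, 0, hs⟩ ht.1.1 hst
  exact ⟨s, mem_uOne hF hfr hs ht.1.2, rfl⟩

/-- The three groups generate the flag group. -/
theorem pflag_eq : rad e ⊔ (uOne e f).map proj ⊔ (uTwo e f).map proj = pflag e := by
  refine le_antisymm (sup_le (sup_le (rad_le_pflag hF hfr) (u_le_pflag hF hfr).1) (u_le_pflag hF hfr).2) ?_
  rintro _ ⟨s, ⟨a, b, c, hs⟩, rfl⟩
  have h0 : sig e f 0 b 0 ∈ uOne e f := mem_uOne hF hfr (sig_acts hF hfr 0 b 0) (sig_inM_f hF hfr _ _ _)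
  have h1 : sig e f a 0 0 ∈ uOne e f := mem_uOne hF hfr (sig_acts hF hfr a 0 0) (sig_inM_f hF hfr _ _ _)
  have h2 : sig e f 0 0 c ∈ uTwo e f := mem_uTwo hF hfr (sig_acts hF hfr 0 0 c) (sig_inM_f hF hfr _ _ _)
  set t := sig e f 0 b 0 * (sig e f 0 0 c * sig e f a 0 0) with htdef
  have ht : Acts e t a b c := by
    simpa using acts_mul (sig_acts hF hfr 0 b 0) (acts_mul (sig_acts hF hfr 0 0 c) (sig_acts hF hfr a 0 0))
  have hk : t⁻¹ * s ∈ fixM e := fun i => by
    have hi : act s (e i) = act t (e i) := by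
      fin_cases i
      exacts [hs.1.trans ht.1.symm, hs.2.1.trans ht.2.1.symm, hs.2.2.trans ht.2.2.symm]
    rw [act_mul, hi, act_inv_cancel']
  rw [show s = t * (t⁻¹ * s) by group, map_mul, htdef, map_mul, map_mul]
  have m1 : ∀ {u : SU6}, u ∈ uOne e f → proj u ∈ rad e ⊔ (uOne e f).map proj ⊔ (uTwo e f).map proj :=
    fun hu => Subgroup.mem_sup_left (Subgroup.mem_sup_right (Subgroup.mem_map_of_mem _ hu))
  exact mul_mem (mul_mem (m1 h0) (mul_mem (Subgroup.mem_sup_right (Subgroup.mem_map_of_mem _ h2)) (m1 h1)))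
    (Subgroup.mem_sup_left (Subgroup.mem_sup_left (Subgroup.mem_map_of_mem _ hk)))

variable {G : Type*} [Group G] {d : G} {π : ↥(Subgroup.centralizer ({d} : Set G)) →* Cfsg.PSU 6 F 2}

theorem leviData [Finite G] (hS : Setup π) :
    ∃ U₁ U₂, Fischer3T60.LeviData d (pre π (rad e)) U₁ U₂ := by
  set u1 := (uOne e f).map proj with hu1
  set u2 := (uTwo e f).map proj with hu2
  have hconj : ∀ {e' f' : Fin 3 → V}, IsFrame e' f' → ∀ u ≤ rad e', ∃ c : G, c * d = d * c ∧
      ∀ x ∈ pre π u, c * x * c⁻¹ ∈ pre π (rad e) := by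
    intro e' f' hfr' u hu
    obtain ⟨c, hc, hB⟩ := hS.exists_conj_pre hF hfr (hS.d_mem (rad e'))
      (hS.pre_rad_sq hF hfr') (hS.card_pre_rad hF hfr')
    exact ⟨c, hc, fun x hx => (hB x).1 (pre_mono hu hx)⟩
  have hnorm : ∀ u ≤ pflag e, pre π u ≤ Subgroup.normalizer (pre π (rad e) : Set G) := by
    intro u hu x hx
    have := pre_mono (hu.trans (pflag_le_nrad hF hfr)) hx
    rw [← hS.normalizer_eq hF hfr] at this
    exact this.2
  refine ⟨pre π u1, pre π u2, hconj (frameOne hF hfr) u1 (uOne_le_rad hF hfr),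
    hconj (frameTwo hF hfr) u2 (uTwo_le_rad hF hfr), hnorm _ (u_le_pflag hF hfr).1,
    hnorm _ (u_le_pflag hF hfr).2, ?_, ?_, ?_⟩
  · rintro _ ⟨c, hc, rfl⟩
    refine hS.mem_normalizer fun y => ?_
    obtain ⟨s, hs, hsc⟩ := hc
    rw [← hsc]
    constructor
    · rintro ⟨t, ht, rfl⟩
      exact ⟨s * t * s⁻¹, conj_uOne hF hfr hs.1 ht, by simp⟩
    · rintro ⟨t, ht, hty⟩
      refine ⟨s⁻¹ * t * s, ?_, ?_⟩
      · have := conj_uOne hF hfr ((levi e f).inv_mem hs.1) ht
        rwa [inv_inv] at this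
      · rw [map_mul, map_mul, map_inv, hty]
        group
  · rw [← hS.pre_sup]
    rintro _ ⟨⟨c, hc, rfl⟩, hc2⟩
    exact Subgroup.mem_sup_right ⟨coe_mem_pre.2 (inter_le hF hfr ⟨hc, coe_mem_pre.1 hc2⟩).1, hc2⟩
  · rw [← hS.pre_sup, ← hS.pre_sup, hu1, hu2, pflag_eq hF hfr]
    have h1 := Subgroup.card_mul_index ((pre π (pflag e)).subgroupOf (Subgroup.centralizer ({d} : Set G)))
    rw [Nat.card_congr (Subgroup.subgroupOfEquivOfLe pre_le).toEquiv, hS.card_pre, card_pflag hF hfr,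
      hS.card_centralizer hF] at h1
    rw [Subgroup.relIndex, show ((pre π (pflag e)).subgroupOf (Subgroup.centralizer ({d} : Set G))).index = 280665
      by omega]
    decide

end Cfsg.Agent.Lib.Fischer3T52.Radical
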