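import Cfsg.Agent.Lib.Fischer3T52.Radical.Classes
import Cfsg.Agent.Lib.Fischer3T52.Radical.Levi
import Cfsg.Prelude.Def_Transfer

/-!
# The frame of the fusion argument, and the Thompson subgroup of a Sylow 2-subgroup of the cover
-/

set_option autoImplicit false
set_option linter.unusedSectionVars false

namespace Cfsg.Agent.Lib.Fischer3T52.Radical

open Cfsg Cfsg.Agent.Lib.PSUAut Cfsg.Agent.Lib.ThreeTransp.PSUSix Cfsg.Agent.Lib.M22Struct66

variable {F : Type} [Field F] [Fintype F]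

local notation "SU6" => (SUType 6 F 2)

variable (hF : Fintype.card F = 4) {e f : Fin 3 → Fin 6 → F} (hfr : IsFrame e f)
include hF hfr

/-- A conjugate of a radical is a radical. -/
theorem exists_frame_conj (g : Cfsg.PSU 6 F 2) : ∃ e' f' : Fin 3 → Fin 6 → F, IsFrame e' f' ∧
    ∀ x, x ∈ rad e' ↔ g * x * g⁻¹ ∈ rad e := by
  obtain ⟨s, rfl⟩ := proj_surjective g
  refine ⟨fun i => act s⁻¹ (e i), fun i => act s⁻¹ (f i), ⟨fun i j => ?_, fun i j => ?_, fun i j => ?_⟩, fun x => ?_⟩
  · rw [act_form]; exact hfr.ee i j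
  · rw [act_form]; exact hfr.ff i j
  · rw [act_form]; exact hfr.ef i j
  constructor
  · rintro ⟨k, hk, rfl⟩
    refine ⟨s * k * s⁻¹, fun i => ?_, by simp⟩
    rw [act_mul, act_mul, hk i, act_inv_cancel]
  · rintro ⟨k, hk, hkx⟩
    refine ⟨s⁻¹ * k * s, fun i => ?_, ?_⟩
    · rw [act_mul, act_mul, act_inv_cancel, hk i]
    · rw [map_mul, map_mul, map_inv, hkx]
      group

variable {G : Type*} [Group G] [Finite G] {d : G} {π : ↥(Subgroup.centralizer ({d} : Set G)) →* Cfsg.PSU 6 F 2}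

theorem frame_of_setup (hS : Setup π) (hperf : commutator ↥(Subgroup.centralizer ({d} : Set G)) = ⊤)
    (hfused : ∃ g : G, g * d * g⁻¹ ∈ Subgroup.centralizer ({d} : Set G) ∧ g * d * g⁻¹ ≠ d) :
    Fischer3T60.Frame d (pre π (rad e)) where
  sq := hS.sq
  ne := hS.ne
  mem := hS.d_mem _
  elem := hS.pre_rad_sq hF hfr
  card := hS.card_pre_rad hF hfr
  self g hg := hS.self_centralizing hF hfr hg
  conj B hd hsq hcard := hS.exists_conj_pre hF hfr hd hsq hcard
  stab := by rw [hS.normalizer_eq hF hfr, hS.card_pre, card_nrad hF hfr]; norm_num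
  classes := rankClasses hF hfr hS
  levi := leviData hF hfr hS
  perfect := hperf
  fused := by
    obtain ⟨g, hgC, hgd⟩ := hfused
    set x : ↥(Subgroup.centralizer ({d} : Set G)) := ⟨g * d * g⁻¹, hgC⟩
    have hx : x * x = 1 := Subtype.ext (show g * d * g⁻¹ * (g * d * g⁻¹) = 1 by
      rw [show g * d * g⁻¹ * (g * d * g⁻¹) = g * (d * d) * g⁻¹ by group, hS.sq, mul_one, mul_inv_cancel])
    obtain ⟨h, hh⟩ := exists_conj_mem hF hfr (x := π x) (by rw [← map_mul, hx, map_one])
    obtain ⟨c, rfl⟩ := hS.cover.surj h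
    refine ⟨(c : G) * (g * d * g⁻¹) * (c : G)⁻¹, ⟨c * x * c⁻¹, ?_, rfl⟩, ?_, fun he => ?_⟩
    · show π (c * x * c⁻¹) ∈ rad e
      rw [map_mul, map_mul, map_inv]; exact hh
    · exact isConj_iff.2 ⟨(c : G) * g, by group⟩
    · refine hgd ?_
      have hc := Subgroup.mem_centralizer_singleton_iff.1 c.2
      rw [mul_inv_eq_iff_eq_mul, ← hc] at he
      exact mul_left_cancel he

/-- The elementary abelian subgroups of largest order of a Sylow 2-subgroup of the cover. -/
theorem exists_thompson (hS : Setup π) (S : Sylow 2 ↥(Subgroup.centralizer ({d} : Set G))) :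
    ∃ e' f' : Fin 3 → Fin 6 → F, IsFrame e' f' ∧
      (thompsonSubgroupOf 2 (S : Subgroup ↥(Subgroup.centralizer ({d} : Set G)))).map
        (Subgroup.centralizer ({d} : Set G)).subtype = pre π (rad e') := by
  have := fact_two (F := F) hF
  have hp : IsPGroup 2 ↥((S : Subgroup ↥(Subgroup.centralizer ({d} : Set G))).map π) := S.2.map π
  obtain ⟨Q, hQ⟩ := hp.exists_le_sylow
  obtain ⟨g, hg⟩ := MulAction.exists_smul_eq (Cfsg.PSU 6 F 2) Q (sylowFlag hF hfr)
  obtain ⟨e', f', hfr', hrad⟩ := exists_frame_conj hF hfr g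
  refine ⟨e', f', hfr', ?_⟩
  have huniq : ∀ E : Subgroup ↥(Subgroup.centralizer ({d} : Set G)), E ≤ (S : Subgroup ↥(Subgroup.centralizer ({d} : Set G))) → (∀ b ∈ E, b * b = 1) → 2 ^ 10 ≤ Nat.card ↥E →
      E = (rad e').comap π := by
    intro E hE hsq hcard
    obtain ⟨h1, h2⟩ := hS.image_facts hF hsq
    have heq := eq_rad_of_le hF hfr (E := (E.map π).map (MulAut.conj g).toMonoidHom) (by
      rintro _ ⟨x, hx, rfl⟩
      rw [← coe_sylowFlag hF hfr, ← hg]
      exact Subgroup.smul_mem_pointwise_smul x (MulAut.conj g) _ (hQ (Subgroup.map_mono hE hx))) (by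
      rintro _ ⟨x, hx, rfl⟩; rw [← map_mul, h1 x hx, map_one]) (by
      rw [Subgroup.card_map_of_injective (MulAut.conj g).injective]; omega)
    refine Subgroup.eq_of_le_of_card_ge (fun b hb => (hrad _).2 ?_) ?_
    · rw [← heq]
      exact ⟨π b, ⟨b, hb, rfl⟩, rfl⟩
    · have h3 : Nat.card ↥((rad e').comap π) = 2 ^ 10 := by
        rw [← hS.card_pre_rad hF hfr', pre, Subgroup.card_map_of_injective Subtype.val_injective]
      omega
  have hsq0 : ∀ b ∈ (rad e).comap π, b * b = 1 := fun b hb => hS.comap_rad_sq hF hfr hb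
  obtain ⟨E0, hE0S, hE0sq, hE0card⟩ : ∃ E : Subgroup ↥(Subgroup.centralizer ({d} : Set G)), E ≤ (S : Subgroup ↥(Subgroup.centralizer ({d} : Set G))) ∧ (∀ b ∈ E, b * b = 1) ∧
      Nat.card ↥E = 2 ^ 10 := by
    obtain ⟨S', hS'⟩ := (show IsPGroup 2 ↥((rad e).comap π) from fun x => ⟨1, Subtype.ext (by
      simpa [pow_two] using hsq0 x.1 x.2)⟩).exists_le_sylow
    obtain ⟨h, hh⟩ := MulAction.exists_smul_eq ↥(Subgroup.centralizer ({d} : Set G)) S' S
    refine ⟨((rad e).comap π).map (MulAut.conj h).toMonoidHom, ?_, ?_, ?_⟩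
    · rintro _ ⟨x, hx, rfl⟩
      rw [← hh]
      exact Subgroup.smul_mem_pointwise_smul x (MulAut.conj h) _ (hS' hx)
    · rintro _ ⟨x, hx, rfl⟩; rw [← map_mul, hsq0 x hx, map_one]
    · rw [Subgroup.card_map_of_injective (MulAut.conj h).injective, ← hS.card_pre_rad hF hfr, pre,
        Subgroup.card_map_of_injective Subtype.val_injective]
  set M0 : Subgroup ↥(S : Subgroup ↥(Subgroup.centralizer ({d} : Set G))) := E0.subgroupOf (S : Subgroup ↥(Subgroup.centralizer ({d} : Set G))) with hM0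
  have hE0 := huniq E0 hE0S hE0sq hE0card.ge
  have hmap0 : M0.map (S : Subgroup ↥(Subgroup.centralizer ({d} : Set G))).subtype = E0 := Subgroup.map_subgroupOf_eq_of_le hE0S
  have hM0el : IsElementaryAbelian 2 M0 := by
    refine ⟨⟨⟨fun a b => Subtype.ext (Subtype.ext ?_)⟩⟩, fun a ha => Subtype.ext ?_⟩
    · have ha : (a.1 : ↥(Subgroup.centralizer ({d} : Set G))) ∈ (rad e').comap π := hE0 ▸ a.2
      have hb : (b.1 : ↥(Subgroup.centralizer ({d} : Set G))) ∈ (rad e').comap π := hE0 ▸ b.2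
      exact hS.comap_rad_comm hF hfr' ha hb
    · simpa [pow_two] using hE0sq a.1 ha
  have hM0card : Nat.card ↥M0 = 2 ^ 10 := by
    rw [← hE0card, ← hmap0, Subgroup.card_map_of_injective Subtype.val_injective]
  have hset : maxElementaryAbelianSubgroups 2 ↥(S : Subgroup ↥(Subgroup.centralizer ({d} : Set G))) = {M0} := by
    ext M
    constructor
    · rintro ⟨hM, hmax⟩
      have h1 := hmax M0 hM0el
      have h2 : M.map (S : Subgroup ↥(Subgroup.centralizer ({d} : Set G))).subtype = (rad e').comap π := by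
        refine huniq _ (Subgroup.map_subtype_le M) ?_ ?_
        · rintro _ ⟨x, hx, rfl⟩
          rw [← pow_two, ← map_pow, hM.2 x hx, map_one]
        · rw [Subgroup.card_map_of_injective Subtype.val_injective]; omega
      exact Subgroup.map_injective Subtype.val_injective (h2.trans (hmap0.trans hE0).symm)
    · rintro rfl
      refine ⟨hM0el, fun B hB => ?_⟩
      rw [hM0card, ← Subgroup.card_map_of_injective (K := B) (f := (S : Subgroup ↥(Subgroup.centralizer ({d} : Set G))).subtype) Subtype.val_injective]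
      refine hS.card_le hF hfr ?_
      rintro _ ⟨x, hx, rfl⟩
      rw [← pow_two, ← map_pow, hB.2 x hx, map_one]
  rw [thompsonSubgroupOf, thompsonSubgroup, hset, sSup_singleton, hmap0, hE0]
  rfl

end Cfsg.Agent.Lib.Fischer3T52.Radical
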