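import Cfsg.Agent.Lib.Fischer3T52.Radical.Plane
import Cfsg.Agent.Lib.LinGroup.Generation
import Cfsg.Agent.Lib.LinGroup.Order
import Cfsg.Agent.Lib.ThreeTransp.PSUSixOval

/-!
# The radical of a plane stabiliser in `PSU₆(2)`: order `2^9`, self-centralising, normaliser of order `2^9·20160`
-/

set_option autoImplicit false
set_option linter.unusedSectionVars false

namespace Cfsg.Agent.Lib.Fischer3T52.Radical

open Cfsg Cfsg.Agent.Lib.PSUAut Cfsg.Agent.Lib.ThreeTransp.PSUSix Cfsg.Agent.Lib.M22Struct66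

variable {F : Type} [Field F] [Fintype F]

local notation "V" => (Fin 6 → F)
local notation "B" => Cfsg.hermForm 6 F 2
local notation "SU6" => (SUType 6 F 2)
local notation "T" v:max => (tp (n := 6) (q := 2) v (1 : F) : Cfsg.PSU 6 F 2)
local notation "tt" v:max => (eich v (0 : Fin 6 → F) (1 : F) : SUType 6 F 2)

/-- The radical of the plane. -/
noncomputable def rad (e : Fin 3 → V) : Subgroup (Cfsg.PSU 6 F 2) := (fixM e).map proj

/-- The image of the stabiliser of the plane. -/
noncomputable def nrad (e : Fin 3 → V) : Subgroup (Cfsg.PSU 6 F 2) := (stabM e).map proj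

/-- The elements generated by the transvections centred on the plane. -/
noncomputable def tvM (e : Fin 3 → V) : Subgroup SU6 :=
  Subgroup.closure {s : SU6 | ∃ v : V, v ≠ 0 ∧ InM e v ∧ s = tt v}

variable (hF : Fintype.card F = 4) {e f : Fin 3 → Fin 6 → F} (hfr : IsFrame e f)
include hF hfr

theorem pow_four' (a : F) : (a ^ 2) ^ 2 = a := by
  rw [← pow_mul]
  by_cases ha : a = 0
  · simp [ha]
  · rw [pow_succ _ 3, pow_three hF ha, one_mul]

theorem tvM_le : tvM e ≤ fixM e := (Subgroup.closure_le _).2 fun _ ⟨_, _, hv, hs⟩ =>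
  hs ▸ transvection_mem hF hfr hv

theorem exists_diag_el (i : Fin 3) (b : Bool) : ∃ s ∈ tvM e,
    ∀ k l, xm f s k l = if k = i ∧ l = i ∧ b = true then 1 else 0 := by
  cases b
  · exact ⟨1, one_mem _, fun k l => by simp [xm_one hF hfr]⟩
  refine ⟨tt (e i), Subgroup.subset_closure ⟨_, hfr.ne_zero_left hF i, inM_left hF hfr i, rfl⟩, fun k l => ?_⟩
  rw [xm_transvection hF hfr (inM_left hF hfr i), hfr.ef, hfr.ef]
  by_cases h1 : i = k <;> by_cases h2 : i = l <;> simp [h1, h2, Ne.symm, eq_comm]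

theorem exists_pair_el {i j : Fin 3} (hij : i ≠ j) (a : F) : ∃ s ∈ tvM e,
    ∀ k l, xm f s k l = if k = i ∧ l = j then a else if k = j ∧ l = i then a ^ 2 else 0 := by
  by_cases ha : a = 0
  · exact ⟨1, one_mem _, fun k l => by simp [xm_one hF hfr, ha]⟩
  have h := herm (n := 6) (card' hF)
  set u : V := e i + a ^ 2 • e j with hu
  have hui : InM e u := fun r => by rw [hu, h.add_left, h.smul_left, hfr.ee, hfr.ee, mul_zero, add_zero]
  have hu0 : u ≠ 0 := fun e0 => by
    have := congrArg (fun x => B x (f i)) e0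
    simp [hu, h.add_left, h.smul_left, h.zero_left, hfr.ef, hij.symm] at this
  have hgen : ∀ v : V, v ≠ 0 → InM e v → tt v ∈ tvM e := fun v h1 h2 =>
    Subgroup.subset_closure ⟨v, h1, h2, rfl⟩
  have hi := hgen _ (hfr.ne_zero_left hF i) (inM_left hF hfr i)
  have hj := hgen _ (hfr.ne_zero_left hF j) (inM_left hF hfr j)
  refine ⟨tt (e i) * tt (e j) * tt u, mul_mem (mul_mem hi hj) (hgen u hu0 hui), fun k l => ?_⟩
  rw [xm_mul hF hfr (tvM_le hF hfr (mul_mem hi hj)) (transvection_mem hF hfr hui),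
    xm_mul hF hfr (tvM_le hF hfr hi) (tvM_le hF hfr hj), xm_transvection hF hfr (inM_left hF hfr i),
    xm_transvection hF hfr (inM_left hF hfr j), xm_transvection hF hfr hui]
  have h2 := add_self' hF (1 : F)
  have h3 := pow_three hF ha
  have h6 : a ^ 2 * (a ^ 2) ^ 2 = 1 := by rw [← pow_succ', pow_three hF (pow_ne_zero 2 ha)]
  simp only [hu, h.add_left, h.smul_left, hfr.ef]
  fin_cases i <;> fin_cases j <;> first
    | exact absurd rfl hij
    | (fin_cases k <;> fin_cases l <;> simp [pow_four' hF hfr, h2, h6, h3] <;>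
        linear_combination h2 + h3)

/-- Every Hermitian matrix occurs, among products of transvections centred on the plane. -/
theorem exists_el (ω : F) (hω : ω ^ 2 + ω + 1 = 0) (x : Hm) :
    ∃ s ∈ tvM e, ∀ k l, xm f s k l = mat ω x k l := by
  obtain ⟨s0, h0, x0⟩ := exists_diag_el hF hfr 0 x.1.1
  obtain ⟨s1, h1, x1⟩ := exists_diag_el hF hfr 1 x.1.2.1
  obtain ⟨s2, h2, x2⟩ := exists_diag_el hF hfr 2 x.1.2.2
  obtain ⟨t0, g0, y0⟩ := exists_pair_el hF hfr (show (0 : Fin 3) ≠ 1 by decide) (el ω x.2.1)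
  obtain ⟨t1, g1, y1⟩ := exists_pair_el hF hfr (show (0 : Fin 3) ≠ 2 by decide) (el ω x.2.2.1)
  obtain ⟨t2, g2, y2⟩ := exists_pair_el hF hfr (show (1 : Fin 3) ≠ 2 by decide) (el ω x.2.2.2)
  have p1 := mul_mem h0 h1
  have p2 := mul_mem p1 h2
  have p3 := mul_mem p2 g0
  have p4 := mul_mem p3 g1
  refine ⟨_, mul_mem p4 g2, fun k l => ?_⟩
  rw [xm_mul hF hfr (tvM_le hF hfr p4) (tvM_le hF hfr g2), xm_mul hF hfr (tvM_le hF hfr p3) (tvM_le hF hfr g1),
    xm_mul hF hfr (tvM_le hF hfr p2) (tvM_le hF hfr g0), xm_mul hF hfr (tvM_le hF hfr p1) (tvM_le hF hfr h2),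
    xm_mul hF hfr (tvM_le hF hfr h0) (tvM_le hF hfr h1), x0, x1, x2, y0, y1, y2]
  have hb : ∀ b : Bool, (if b = true then (1 : F) else 0) = el ω (bit4 b) := fun b => by cases b <;> simp [el, bit4]
  fin_cases k <;> fin_cases l <;> simp [mat, hget, el_cj hF hω, el_zero, hb]

theorem exists_code (ω : F) (hω : ω ^ 2 + ω + 1 = 0) {s : SU6} (hs : s ∈ fixM e) :
    ∃ x : Hm, ∀ k l, xm f s k l = mat ω x k l := by
  obtain ⟨p, hp⟩ := el_surj hF hω (xm f s 0 1)
  obtain ⟨q, hq⟩ := el_surj hF hω (xm f s 0 2)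
  obtain ⟨r, hr⟩ := el_surj hF hω (xm f s 1 2)
  have hd : ∀ i, ∃ b : Bool, el ω (bit4 b) = xm f s i i := fun i => by
    have h := xm_herm hF hfr hs i i
    have : xm f s i i * (xm f s i i - 1) = 0 := by linear_combination -h
    rcases mul_eq_zero.1 this with h1 | h1
    · exact ⟨false, by rw [h1]; rfl⟩
    · exact ⟨true, by rw [sub_eq_zero.1 h1]; rfl⟩
  obtain ⟨a, ha⟩ := hd 0
  obtain ⟨b, hb⟩ := hd 1
  obtain ⟨c, hc⟩ := hd 2
  refine ⟨((a, b, c), p, q, r), fun k l => ?_⟩
  fin_cases k <;> fin_cases l <;>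
    simp [mat, hget, el_cj hF hω, ha, hb, hc, hp, hq, hr, ← xm_herm hF hfr hs]

theorem fixM_le_tvM : fixM e ≤ tvM e := fun s hs => by
  obtain ⟨ω, hω⟩ := exists_omega hF
  obtain ⟨x, hx⟩ := exists_code hF hfr ω hω hs
  obtain ⟨t, ht, hxt⟩ := exists_el hF hfr ω hω x
  rw [xm_inj hF hfr hs (tvM_le hF hfr ht) fun k l => (hx k l).trans (hxt k l).symm]
  exact ht

theorem card_fixM : Nat.card ↥(fixM e) = 512 := by
  obtain ⟨ω, hω⟩ := exists_omega hF
  choose φ hφ hφx using exists_el hF hfr ω hω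
  have hb : Function.Bijective fun x : Hm => (⟨φ x, tvM_le hF hfr (hφ x)⟩ : ↥(fixM e)) := by
    refine ⟨fun x y hxy => mat_inj hF hω fun k l => ?_, fun s => ?_⟩
    · have := congrArg (fun z : ↥(fixM e) => xm f z.1 k l) hxy
      simpa [hφx] using this
    · obtain ⟨x, hx⟩ := exists_code hF hfr ω hω s.2
      exact ⟨x, Subtype.ext (xm_inj hF hfr (tvM_le hF hfr (hφ x)) s.2 fun k l =>
        (hφx x k l).trans (hx k l).symm)⟩
  rw [← Nat.card_congr (Equiv.ofBijective _ hb), Nat.card_eq_fintype_card]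
  decide +kernel

theorem fixM_comm {s t : SU6} (hs : s ∈ fixM e) (ht : t ∈ fixM e) : s * t = t * s :=
  xm_inj hF hfr (mul_mem hs ht) (mul_mem ht hs) fun k l => by
    rw [xm_mul hF hfr hs ht, xm_mul hF hfr ht hs, add_comm]

theorem fixM_sq {s : SU6} (hs : s ∈ fixM e) : s * s = 1 :=
  xm_inj hF hfr (mul_mem hs hs) (one_mem _) fun k l => by
    rw [xm_mul hF hfr hs hs, add_self' hF, xm_one hF hfr]

theorem eq_of_proj_eq₀ {s t : SU6} (hs : act s (e 0) = e 0) (ht : act t (e 0) = e 0) (h : proj s = proj t) :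
    s = t := by
  obtain ⟨a, ha⟩ := exists_scalar_of_proj_eq (card' hF) h
  have h1 := ha (e 0)
  rw [hs, ht] at h1
  have h2 : a = 1 := by
    have := congrArg (fun x => B x (f 0)) h1
    simpa [(herm (n := 6) (card' hF)).smul_left, hfr.ef] using this.symm
  exact act_ext fun v => by rw [ha v, h2, one_smul]

theorem card_rad : Nat.card ↥(rad e) = 512 := by
  rw [← card_fixM hF hfr]
  exact Nat.card_congr ((Equiv.ofBijective (fun s : ↥(fixM e) => (⟨proj s.1, s.1, s.2, rfl⟩ : ↥(rad e)))
    ⟨fun s t h => Subtype.ext (eq_of_proj_eq₀ hF hfr (s.2 0) (t.2 0) (congrArg Subtype.val h)),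
      fun ⟨_, s, hs, e0⟩ => ⟨⟨s, hs⟩, Subtype.ext e0⟩⟩).symm)

theorem rad_comm : ∀ x ∈ rad e, ∀ y ∈ rad e, x * y = y * x := by
  rintro _ ⟨s, hs, rfl⟩ _ ⟨t, ht, rfl⟩
  rw [← map_mul, ← map_mul, fixM_comm hF hfr hs ht]

theorem rad_sq : ∀ x ∈ rad e, x * x = 1 := by
  rintro _ ⟨s, hs, rfl⟩
  rw [← map_mul, fixM_sq hF hfr hs, map_one]

theorem mem_rad_point {v : V} (hv : InM e v) : T v ∈ rad e := ⟨tt v, transvection_mem hF hfr hv, rfl⟩

/-- Every element of the radical is a product of transvections centred on the plane. -/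
theorem exists_list {x : Cfsg.PSU 6 F 2} (hx : x ∈ rad e) :
    ∃ l : List (Cfsg.PSU 6 F 2), (∀ U ∈ l, U ∈ points F ∧ U ∈ rad e) ∧ l.prod = x := by
  obtain ⟨s, hs, rfl⟩ := hx
  have hs' := fixM_le_tvM hF hfr hs
  induction hs' using Subgroup.closure_induction with
  | mem s h =>
    obtain ⟨v, hv0, hv, rfl⟩ := h
    exact ⟨[T v], by
      simpa using ⟨⟨v, ⟨hv0, inM_iso hF hfr hv⟩, rfl⟩, mem_rad_point hF hfr hv⟩, by simp; rfl⟩
  | one => exact ⟨[], by simp, by simp⟩
  | mul s t h1 h2 i1 i2 =>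
    obtain ⟨l, hl, el⟩ := i1 (tvM_le hF hfr h1)
    obtain ⟨m, hm, em⟩ := i2 (tvM_le hF hfr h2)
    exact ⟨l ++ m, fun U hU => (List.mem_append.1 hU).elim (hl U) (hm U), by rw [List.prod_append, el, em, map_mul]⟩
  | inv s h1 i1 =>
    obtain ⟨l, hl, el⟩ := i1 (tvM_le hF hfr h1)
    refine ⟨l, hl, el.trans ?_⟩
    rw [inv_eq_of_mul_eq_one_right (fixM_sq hF hfr (tvM_le hF hfr h1))]

/-- A transvection in the radical is centred on the plane. -/
theorem inM_of_mem {v : V} (hv : IsPt v) (h : T v ∈ rad e) : InM e v := fun i =>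
  (commute_T hF (hfr.ne_zero_left hF i) (hfr.ee i i) hv.1 hv.2).1
    (rad_comm hF hfr _ (mem_rad_point hF hfr (inM_left hF hfr i)) _ h)

/-- An element scalar on the plane has scalar square and lies in the radical modulo scalars. -/
theorem scalar_facts {s : SU6} {a : F} (ha : a ≠ 0) (hs : ∀ i, act s (e i) = a • e i) :
    (∀ y, act (s * s) y = a ^ 2 • y) ∧ proj s ∈ rad e := by
  have h := herm (n := 6) (card' hF)
  have h3 := pow_three hF ha
  have hM : ∀ x, InM e x → act s x = a • x := fun x hx => by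
    rw [eq_sum hF hfr hx, Fin.sum_univ_three, act_add hF, act_add hF, act_smul hF, act_smul hF, act_smul hF,
      hs 0, hs 1, hs 2]
    module
  have hf : ∀ j, ∃ m, InM e m ∧ act s (f j) = a • f j + m := fun j => by
    refine ⟨act s (f j) + a • f j, fun i => ?_, by
      rw [add_comm (act s (f j)), ← add_assoc, vec_add_self hF, zero_add]⟩
    have h0 := act_form s (f j) (e i)
    rw [hs, h.smul_right, Forms.qPowHom_apply] at h0
    rw [h.add_left, h.smul_left]
    have h2 := add_self' hF (a * B (f j) (e i))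
    linear_combination a * h0 - B (act s (f j)) (e i) * h3 + h2
  have hsq : ∀ y, act (s * s) y = a ^ 2 • y := by
    have hef : ∀ i, act (s * s) (e i) = a ^ 2 • e i := fun i => by
      rw [act_mul, hs, act_smul hF, hs, smul_smul, pow_two]
    have hff : ∀ j, act (s * s) (f j) = a ^ 2 • f j := fun j => by
      obtain ⟨m, hm, hm'⟩ := hf j
      rw [act_mul, hm', act_add hF, act_smul hF, hm', hM m hm, smul_add, add_assoc, vec_add_self hF, add_zero,
        smul_smul, pow_two]
    intro y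
    obtain ⟨c, rfl⟩ := (hfr.bijective hF).2 y
    simp only [cmb, act_add hF, act_smul hF, hef, hff, smul_add]
    simp only [smul_comm (a ^ 2)]
  refine ⟨hsq, s * s * s, fun i => ?_, ?_⟩
  · rw [act_mul, hs, hsq, smul_smul, ← pow_succ, h3, one_smul]
  · exact (proj_eq_of_scalar (a := a ^ 2) (fun v => by rw [act_mul, hsq])).symm

/-- The radical is its own centraliser. -/
theorem mem_rad_of_commute {x : Cfsg.PSU 6 F 2} (hx : ∀ y ∈ rad e, x * y = y * x) : x ∈ rad e := by
  have h := herm (n := 6) (card' hF)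
  obtain ⟨s, rfl⟩ := proj_surjective x
  have hev : ∀ v, v ≠ 0 → InM e v → ∃ a : F, act s v = a • v := fun v hv0 hv => by
    have hiso := inM_iso hF hfr hv
    have hT : T (act s v) = T v := by
      rw [← conj_T hF s hiso, hx _ (mem_rad_point hF hfr hv), mul_inv_cancel_right]
    exact T_line hF (act_ne_zero s hv0) ((act_form s v v).trans hiso) hiso hT
  choose a ha using fun i => hev (e i) (hfr.ne_zero_left hF i) (inM_left hF hfr i)
  have he012 : InM e (e 0 + e 1 + e 2) := fun j => by simp [h.add_left, hfr.ee]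
  have hne : e 0 + e 1 + e 2 ≠ 0 := fun e0 => by
    have := congrArg (fun x => B x (f 0)) e0
    simp [h.add_left, h.zero_left, hfr.ef] at this
  obtain ⟨b, hb⟩ := hev _ hne he012
  have hab : ∀ i, a i = b := fun i => by
    have := congrArg (fun x => B x (f i)) hb
    fin_cases i <;> simpa [act_add hF, ha, h.add_left, h.smul_left, hfr.ef] using this
  have hb0 : b ≠ 0 := fun h0 => act_ne_zero s hne (by rw [hb, h0, zero_smul])
  exact (scalar_facts hF hfr hb0 fun i => by rw [ha, hab]).2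

theorem conj_rad {x y : Cfsg.PSU 6 F 2} (hx : x ∈ nrad e) (hy : y ∈ rad e) : x * y * x⁻¹ ∈ rad e := by
  obtain ⟨s, hs, rfl⟩ := hx
  obtain ⟨k, hk, rfl⟩ := hy
  exact ⟨s * k * s⁻¹, conj_fixM hF hfr hs hk, by simp⟩

theorem mem_nrad {x : Cfsg.PSU 6 F 2} (hx : ∀ y ∈ rad e, x * y * x⁻¹ ∈ rad e) : x ∈ nrad e := by
  obtain ⟨s, rfl⟩ := proj_surjective x
  refine ⟨s, mem_stabM hF hfr fun i => inM_of_mem hF hfr
    ⟨act_ne_zero s (hfr.ne_zero_left hF i), (act_form s _ _).trans (hfr.ee i i)⟩ ?_, rfl⟩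
  rw [← conj_T hF s (hfr.ee i i)]
  exact hx _ (mem_rad_point hF hfr (inM_left hF hfr i))

theorem rad_le_nrad : rad e ≤ nrad e := Subgroup.map_mono (fixM_le hF hfr)

/-! ### The order of the normaliser -/

/-- The coordinates at the frame. -/
noncomputable def coordEquiv : V ≃ₗ[F] (Fin 3 ⊕ Fin 3 → F) :=
  LinearEquiv.ofBijective
    { toFun := fun x => Sum.elim (fun k => B x (f k)) (fun k => B x (e k))
      map_add' := fun x y => by
        funext p; cases p <;> simp [(herm (n := 6) (card' hF)).add_left]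
      map_smul' := fun a x => by
        funext p; cases p <;> simp [(herm (n := 6) (card' hF)).smul_left] }
    ⟨fun x y hxy => ext_cmb hF hfr (fun i => congrFun hxy (Sum.inr i)) fun i => congrFun hxy (Sum.inl i),
      fun c => ⟨cmb e f (c ∘ Sum.inl, c ∘ Sum.inr), by
        funext p
        cases p with
        | inl i => exact hfr.coef_f hF _ i
        | inr i => exact hfr.coef_e hF _ i⟩⟩

/-- The matrix on the plane has determinant 1. -/
theorem det_gm {s : SU6} (hs : s ∈ stabM e) : (Matrix.of (gm e f s)).det = 1 := by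
  classical
  have h := herm (n := 6) (card' hF)
  let b : Module.Basis (Fin 3 ⊕ Fin 3) F V := Module.Basis.ofEquivFun (coordEquiv hF hfr)
  have hrl : ∀ x k, b.repr x (Sum.inl k) = B x (f k) := fun _ _ => rfl
  have hrr : ∀ x k, b.repr x (Sum.inr k) = B x (e k) := fun _ _ => rfl
  have hbl : ∀ i, b (Sum.inl i) = e i := fun i => by
    refine b.repr.injective (Finsupp.ext fun p => ?_)
    cases p with
    | inl k => rw [Module.Basis.repr_self, hrl, hfr.ef, Finsupp.single_apply]; simp
    | inr k => rw [Module.Basis.repr_self, hrr, hfr.ee, Finsupp.single_apply]; simp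
  have hbr : ∀ i, b (Sum.inr i) = f i := fun i => by
    refine b.repr.injective (Finsupp.ext fun p => ?_)
    cases p with
    | inl k => rw [Module.Basis.repr_self, hrl, hfr.ff, Finsupp.single_apply]; simp
    | inr k => rw [Module.Basis.repr_self, hrr, hfr.fe hF, Finsupp.single_apply]; simp
  set G := Matrix.of (gm e f s) with hG
  set H : Matrix (Fin 3) (Fin 3) F := Matrix.of fun k j => B (act s (f j)) (e k) with hH
  have hM : LinearMap.toMatrix b b (Matrix.toLin' s.1.1) =
      Matrix.fromBlocks G (Matrix.of fun k j => B (act s (f j)) (f k)) 0 H := by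
    ext p q
    rw [LinearMap.toMatrix_apply]
    cases p <;> cases q <;> simp only [hrl, hrr, hbl, hbr, Matrix.toLin'_apply, Matrix.fromBlocks_apply₁₁,
      Matrix.fromBlocks_apply₁₂, Matrix.fromBlocks_apply₂₁, Matrix.fromBlocks_apply₂₂]
    · rfl
    · rfl
    · exact (hs _).2 (inM_left hF hfr _) _
    · rfl
  have hdet : G.det * H.det = 1 := by
    rw [← Matrix.det_fromBlocks_zero₂₁ G (Matrix.of fun k j => B (act s (f j)) (f k)) H, ← hM,
      LinearMap.det_toMatrix, LinearMap.det_toLin']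
    exact s.1.2
  have hGH : H.transpose * G.map (Forms.qPowHom (card' hF)) = 1 := by
    ext j i
    have h0 := act_form s (f j) (e i)
    rw [form_cmb hF hfr, (hs _).2 (inM_left hF hfr i) 0, (hs _).2 (inM_left hF hfr i) 1,
      (hs _).2 (inM_left hF hfr i) 2, hfr.fe hF] at h0
    simp only [Matrix.mul_apply, Fin.sum_univ_three, Matrix.transpose_apply, Matrix.map_apply, hH, hG,
      Matrix.of_apply, Matrix.one_apply, gm, Forms.qPowHom_apply]
    linear_combination h0
  have h1 : H.det * G.det ^ 2 = 1 := by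
    have := congrArg Matrix.det hGH
    rw [Matrix.det_mul, Matrix.det_transpose, ← RingHom.mapMatrix_apply, ← RingHom.map_det, Matrix.det_one,
      Forms.qPowHom_apply] at this
    exact this
  linear_combination h1 - G.det * hdet

/-- The action on the plane. -/
noncomputable def glHom : ↥(stabM e) →* Matrix.SpecialLinearGroup (Fin 3) F where
  toFun s := ⟨Matrix.of (gm e f s.1), det_gm hF hfr s.2⟩
  map_one' := Subtype.ext (Matrix.ext fun k i => by
    simp [gm, act_one, hfr.ef, Matrix.one_apply, eq_comm])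
  map_mul' s t := Subtype.ext (Matrix.ext fun l i => by
    show gm e f (s.1 * t.1) l i = (Matrix.of (gm e f s.1) * Matrix.of (gm e f t.1)) l i
    simp [Matrix.mul_apply, gm_mul hF hfr s.2 t.2])

theorem glHom_surjective : Function.Surjective (glHom hF hfr) := by
  rw [← MonoidHom.range_eq_top]
  refine LinGroup.eq_top_of_transvection_mem _ fun i j hij c => ⟨⟨_, elel_mem hF hfr hij c⟩, ?_⟩
  refine Subtype.ext (Matrix.ext fun r s => ?_)
  show gm e f (elel e f i j c) r s = (Matrix.SpecialLinearGroup.transvection hij c).1 r s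
  rw [gm_elel hF hfr hij]
  simp only [LinGroup.coe_transvection, Matrix.transvection, Matrix.add_apply, Matrix.single_apply,
    Matrix.one_apply]
  by_cases h1 : r = s
  · subst h1
    have hno : ¬ (i = r ∧ j = r) := fun h => hij (h.1.trans h.2.symm)
    simp [hno]
  · simp [h1, eq_comm]

theorem card_stabM : Nat.card ↥(stabM e) = 512 * 60480 := by
  classical
  have hSL : Nat.card (Matrix.SpecialLinearGroup (Fin 3) F) = 60480 := by
    have := LinGroup.card_SL_mul (F := F) 3 (by norm_num)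
    rw [hF, Fin.prod_univ_three] at this
    simp only [Fin.val_zero, Fin.val_one, Fin.val_two] at this
    norm_num at this
    rw [Nat.card_eq_fintype_card]
    omega
  have hker : Nat.card ↥(glHom hF hfr).ker = 512 := by
    rw [← card_fixM hF hfr]
    refine Nat.card_congr ⟨fun s => ⟨s.1.1, fun i => ?_⟩, fun s => ⟨⟨s.1, fixM_le hF hfr s.2⟩, ?_⟩,
      fun _ => rfl, fun _ => rfl⟩
    · have h0 : ∀ k, gm e f s.1.1 k i = if k = i then 1 else 0 := fun k => by
        have : gm e f s.1.1 k i = (1 : Matrix (Fin 3) (Fin 3) F) k i :=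
          congrFun (congrFun (congrArg (fun M : Matrix.SpecialLinearGroup (Fin 3) F => M.1) s.2) k) i
        rwa [Matrix.one_apply] at this
      refine inM_ext hF hfr ((s.1.2 _).2 (inM_left hF hfr i)) (inM_left hF hfr i) fun k => ?_
      rw [hfr.ef]
      exact (h0 k).trans (by simp [eq_comm])
    · refine Subtype.ext (Matrix.ext fun k i => ?_)
      show gm e f s.1 k i = _
      simp [gm, s.2 i, hfr.ef, Matrix.one_apply, eq_comm]
  have h := Subgroup.card_mul_index (glHom hF hfr).ker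
  rw [Subgroup.index_ker, MonoidHom.range_eq_top.2 (glHom_surjective hF hfr), Subgroup.card_top, hker, hSL] at h
  omega

/-- Three scalars. -/
theorem card_nrad : Nat.card ↥(nrad e) = 512 * 20160 := by
  classical
  obtain ⟨ω, hω⟩ := exists_omega hF
  obtain ⟨hω0, -, hω1, -, -⟩ := omega_facts hF hω
  let φ : ↥(stabM e) →* Cfsg.PSU 6 F 2 := proj.comp (stabM e).subtype
  have hr : φ.range = nrad e := by rw [MonoidHom.range_comp, Subgroup.range_subtype]; rfl
  have hsc : ∀ z : ↥φ.ker, ∃ a : F, a ≠ 0 ∧ ∀ v, act z.1.1 v = a • v := fun z => by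
    obtain ⟨a, ha⟩ := exists_scalar_of_proj_eq (card' hF) (s := (1 : SU6)) (t := z.1.1)
      (by rw [map_one]; exact z.2.symm)
    refine ⟨a, fun h0 => ?_, fun v => by rw [ha v, act_one]⟩
    exact act_ne_zero z.1.1 (hfr.ne_zero_left hF 0) (by rw [ha, h0, zero_smul])
  choose a ha0 ha using hsc
  have hle : Nat.card ↥φ.ker ≤ 3 := by
    refine (Nat.card_le_card_of_injective (fun z => Units.mk0 (a z) (ha0 z)) fun z w h => ?_).trans
      (le_of_eq ?_)
    · exact Subtype.ext (Subtype.ext (act_ext fun v => by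
        rw [ha, ha, show a z = a w from congrArg Units.val h]))
    · rw [LinGroup.card_units_eq_sub_one, hF]
  obtain ⟨t, ht⟩ := glHom_surjective hF hfr ⟨Matrix.diagonal fun _ => ω, by
    rw [Matrix.det_diagonal, Fin.prod_univ_three, ← ThreeTransp.PSUSix.pow_three hF hω0]; ring⟩
  have hte : ∀ i, act t.1 (e i) = ω • e i := fun i => by
    refine inM_ext hF hfr ((t.2 _).2 (inM_left hF hfr i)) (fun j => by
      simp [(herm (n := 6) (card' hF)).smul_left, hfr.ee]) fun k => ?_
    have h1 : gm e f t.1 k i = Matrix.diagonal (fun _ => ω) k i :=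
      congrFun (congrFun (congrArg (fun M : Matrix.SpecialLinearGroup (Fin 3) F => M.1) ht) k) i
    rw [(herm (n := 6) (card' hF)).smul_left, hfr.ef]
    simpa [gm, Matrix.diagonal_apply, eq_comm] using h1
  have hsq := (scalar_facts hF hfr hω0 hte).1
  have hmem : t * t ∈ φ.ker := by
    show proj (t.1 * t.1) = 1
    rw [← map_one (proj (n := 6) (q := 2) : SU6 →* _)]
    exact (proj_eq_of_scalar (a := ω ^ 2) fun v => by rw [hsq, act_one]).symm
  have hne : t * t ≠ 1 := fun h1 => by
    have h2 := hsq (e 0)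
    rw [show t.1 * t.1 = 1 from congrArg Subtype.val h1, act_one] at h2
    have := congrArg (fun x => B x (f 0)) h2
    simp [(herm (n := 6) (card' hF)).smul_left, hfr.ef] at this
    exact hω1 (by linear_combination ω * this + ThreeTransp.PSUSix.pow_three hF hω0)
  have h3 : Nat.card ↥φ.ker = 3 := by
    have ho : orderOf (⟨t * t, hmem⟩ : ↥φ.ker) = 3 := by
      refine orderOf_eq_prime (hp := ⟨Nat.prime_three⟩) (Subtype.ext (Subtype.ext (act_ext fun v => ?_))) ?_
      · show act (((t * t) ^ 3 : ↥(stabM e)) : SU6) v = act 1 v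
        simp only [pow_succ, pow_zero, one_mul, Subgroup.coe_mul, act_mul _ (t.1 * t.1), hsq, act_smul hF,
          act_one, smul_smul]
        rw [show ω * ω * (ω * ω * (ω * ω)) = (ω ^ 2) ^ 3 by ring,
          ThreeTransp.PSUSix.pow_three hF (pow_ne_zero 2 hω0), one_smul]
      · exact fun h1 => hne (congrArg Subtype.val h1)
    have hdvd : 3 ∣ Nat.card ↥φ.ker := ho ▸ orderOf_dvd_natCard _
    have hpos : 0 < Nat.card ↥φ.ker := Nat.card_pos
    omega
  have h := Subgroup.card_mul_index φ.ker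
  rw [Subgroup.index_ker, h3, hr, card_stabM hF hfr] at h
  omega

end Cfsg.Agent.Lib.Fischer3T52.Radical
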