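import Mathlib

/-!
# Hermitian three-by-three matrices over four elements, as a finite table

Four elements are `Fin 4` (`2, 3` are the roots of `x² + x + 1`); a Hermitian matrix is coded by a number
below 512.
-/

set_option autoImplicit false

namespace Cfsg.Agent.Lib.Fischer3T52.Radical

/-- Sum. -/
def ad4 : Fin 4 → Fin 4 → Fin 4 :=
  ![![0, 1, 2, 3], ![1, 0, 3, 2], ![2, 3, 0, 1], ![3, 2, 1, 0]]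

/-- Product. -/
def ml4 : Fin 4 → Fin 4 → Fin 4 :=
  ![![0, 0, 0, 0], ![0, 1, 2, 3], ![0, 2, 3, 1], ![0, 3, 1, 2]]

/-- Square. -/
def cj4 : Fin 4 → Fin 4 := ![0, 1, 3, 2]

/-- A coded Hermitian matrix: three diagonal bits and the entries `01, 02, 12`. -/
abbrev Hm : Type := (Bool × Bool × Bool) × (Fin 4 × Fin 4 × Fin 4)

/-- A bit as an element. -/
def bit4 : Bool → Fin 4
  | false => 0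
  | true => 1

/-- The entries. -/
def hget (x : Hm) : Fin 3 → Fin 3 → Fin 4 :=
  ![![bit4 x.1.1, x.2.1, x.2.2.1], ![cj4 x.2.1, bit4 x.1.2.1, x.2.2.2], ![cj4 x.2.2.1, cj4 x.2.2.2, bit4 x.1.2.2]]

/-- An entry of `g X g*`. -/
def congEntry (g : Fin 3 → Fin 3 → Fin 4) (x : Hm) (i j : Fin 3) : Fin 4 :=
  let term : Fin 3 → Fin 3 → Fin 4 := fun k l => ml4 (ml4 (g i k) (hget x k l)) (cj4 (g j l))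
  let row : Fin 3 → Fin 4 := fun k => ad4 (ad4 (term k 0) (term k 1)) (term k 2)
  ad4 (ad4 (row 0) (row 1)) (row 2)

/-- `g X g*`. -/
def hcong (g : Fin 3 → Fin 3 → Fin 4) (x : Hm) : Hm :=
  ((congEntry g x 0 0 == 1, congEntry g x 1 1 == 1, congEntry g x 2 2 == 1),
    (congEntry g x 0 1, congEntry g x 0 2, congEntry g x 1 2))

/-- The unitriangular matrix with entries `01, 02, 12`. -/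
def uni (a b c : Fin 4) : Fin 3 → Fin 3 → Fin 4 := ![![1, a, b], ![0, 1, c], ![0, 0, 1]]

/-- The elation `1 + a E(i,j)`. -/
def elat (i j : Fin 3) (a : Fin 4) : Fin 3 → Fin 3 → Fin 4 :=
  fun r s => if r = s then 1 else if r = i ∧ s = j then a else 0

/-- Twelve elations generating `SL₃(4)`. -/
def gen (k : Fin 12) : Fin 3 → Fin 3 → Fin 4 :=
  elat (![0, 0, 1, 1, 2, 2] ⟨k.1 / 2, by omega⟩) (![1, 2, 2, 0, 0, 1] ⟨k.1 / 2, by omega⟩)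
    (if k.1 % 2 = 0 then 1 else 2)

/-- Decoding. -/
def dcd (n : ℕ) : Hm :=
  ((n % 2 == 1, n / 2 % 2 == 1, n / 4 % 2 == 1),
    (⟨n / 8 % 4, Nat.mod_lt _ (by norm_num)⟩, ⟨n / 32 % 4, Nat.mod_lt _ (by norm_num)⟩,
      ⟨n / 128 % 4, Nat.mod_lt _ (by norm_num)⟩))

/-- Coding. -/
def ecd (x : Hm) : ℕ :=
  x.1.1.toNat + 2 * x.1.2.1.toNat + 4 * x.1.2.2.toNat + 8 * x.2.1.1 + 32 * x.2.2.1.1 + 128 * x.2.2.2.1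

/-- The parent of a matrix, in blocks of sixty-four. -/
def parTab : List (List ℕ) :=
  [[0, 1, 11, 3, 37, 135, 39, 7, 10, 3, 3, 1, 14, 7, 7, 46,
    18, 9, 3, 11, 22, 13, 7, 54, 25, 3, 10, 1, 29, 7, 14, 5,
    40, 41, 38, 7, 174, 1, 7, 3, 8, 9, 35, 35, 13, 13, 39, 14,
    16, 17, 35, 34, 20, 20, 39, 22, 48, 121, 34, 35, 29, 28, 46, 30],
   [80, 81, 70, 35, 214, 37, 7, 39, 40, 41, 66, 66, 13, 12, 71, 14,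
    16, 17, 66, 66, 20, 20, 71, 22, 24, 25, 474, 187, 29, 29, 478, 30,
    120, 121, 99, 7, 254, 1, 38, 3, 8, 9, 99, 106, 12, 13, 103, 47,
    104, 105, 99, 99, 496, 239, 103, 55, 24, 25, 106, 99, 28, 29, 110, 63],
   [136, 133, 138, 7, 173, 7, 2, 3, 8, 131, 10, 131, 14, 135, 14, 133,
    400, 129, 402, 131, 22, 141, 148, 143, 24, 131, 26, 129, 30, 135, 30, 133,
    164, 133, 38, 39, 46, 133, 38, 35, 136, 13, 14, 163, 38, 9, 10, 11,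
    170, 241, 274, 162, 438, 148, 278, 159, 162, 253, 442, 170, 253, 55, 60, 55],
   [201, 197, 70, 71, 236, 133, 326, 67, 172, 173, 110, 194, 141, 140, 332, 159,
    218, 219, 22, 218, 70, 253, 18, 19, 210, 157, 138, 210, 253, 79, 142, 142,
    241, 133, 102, 103, 180, 165, 102, 99, 140, 141, 110, 79, 173, 172, 106, 79,
    212, 105, 54, 55, 110, 212, 166, 166, 241, 29, 30, 227, 102, 25, 26, 27],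
   [280, 261, 282, 131, 317, 7, 319, 135, 136, 257, 138, 257, 14, 263, 268, 261,
    16, 309, 18, 119, 22, 373, 22, 271, 24, 257, 26, 257, 30, 263, 30, 261,
    298, 261, 294, 163, 36, 325, 38, 167, 268, 419, 394, 289, 46, 55, 398, 55,
    276, 41, 54, 313, 438, 47, 271, 47, 442, 29, 250, 33, 38, 25, 438, 27],
   [338, 325, 326, 266, 68, 261, 70, 221, 364, 169, 170, 338, 70, 173, 174, 175,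
    276, 89, 402, 403, 214, 276, 406, 55, 316, 317, 274, 123, 317, 87, 278, 87,
    377, 261, 370, 274, 118, 261, 302, 278, 268, 227, 138, 143, 494, 268, 142, 294,
    362, 353, 210, 362, 276, 103, 494, 101, 316, 317, 266, 353, 317, 316, 326, 271],
   [400, 387, 402, 7, 437, 133, 2, 3, 8, 387, 10, 403, 140, 391, 14, 389,
    16, 403, 18, 387, 148, 397, 22, 343, 392, 387, 394, 387, 156, 391, 286, 454,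
    442, 389, 38, 39, 188, 389, 166, 35, 170, 419, 46, 79, 174, 393, 172, 79,
    442, 21, 22, 419, 172, 17, 18, 19, 434, 163, 394, 418, 397, 165, 398, 398],
   [466, 459, 70, 89, 413, 95, 70, 93, 332, 493, 46, 47, 493, 197, 76, 47,
    210, 457, 274, 450, 214, 325, 278, 79, 218, 313, 30, 457, 212, 493, 391, 27,
    506, 389, 102, 103, 468, 389, 102, 99, 392, 13, 14, 506, 396, 9, 10, 11,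
    490, 121, 118, 490, 118, 125, 454, 87, 490, 483, 402, 490, 413, 357, 406, 357]]

/-- The parent of a matrix. -/
def parOf (n : ℕ) : ℕ := ((parTab.getD (n / 64) []).getD (n % 64) 0)

/-- The elation leading from the parent, in blocks of sixty-four. -/
def genTab : List (List ℕ) :=
  [[0, 0, 0, 0, 2, 4, 2, 0, 7, 6, 0, 6, 7, 6, 0, 2,
    6, 7, 1, 7, 6, 7, 1, 2, 0, 7, 1, 7, 0, 7, 1, 7,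
    4, 4, 9, 8, 4, 8, 2, 8, 10, 10, 0, 4, 2, 10, 0, 2,
    11, 11, 1, 1, 11, 2, 1, 2, 4, 11, 5, 5, 2, 2, 1, 2],
   [4, 4, 8, 9, 4, 9, 3, 9, 11, 11, 5, 0, 3, 3, 0, 3,
    10, 10, 4, 1, 10, 3, 1, 3, 11, 11, 7, 9, 3, 11, 7, 3,
    4, 4, 2, 9, 4, 9, 3, 9, 11, 11, 0, 2, 11, 11, 0, 3,
    4, 4, 1, 5, 8, 4, 1, 3, 10, 10, 1, 4, 10, 10, 1, 3],
   [2, 11, 2, 10, 2, 4, 10, 10, 8, 6, 8, 2, 4, 6, 8, 6,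
    9, 3, 9, 3, 4, 7, 6, 7, 9, 7, 9, 7, 4, 7, 9, 7,
    9, 8, 10, 10, 4, 0, 6, 10, 0, 8, 10, 2, 4, 8, 10, 8,
    5, 1, 11, 3, 7, 0, 11, 0, 5, 11, 7, 3, 1, 4, 6, 6],
   [2, 11, 10, 10, 2, 1, 7, 10, 11, 11, 10, 2, 1, 1, 7, 1,
    5, 5, 10, 2, 4, 2, 10, 10, 5, 11, 1, 2, 0, 4, 1, 3,
    3, 9, 10, 10, 3, 1, 7, 10, 11, 11, 8, 10, 1, 1, 8, 8,
    11, 7, 10, 10, 4, 0, 3, 1, 2, 9, 10, 4, 4, 9, 10, 9],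
   [2, 10, 2, 11, 2, 5, 2, 11, 9, 3, 9, 6, 5, 6, 7, 6,
    9, 11, 9, 9, 5, 1, 9, 7, 8, 2, 8, 7, 5, 7, 8, 7,
    4, 8, 9, 11, 7, 1, 7, 11, 10, 6, 10, 4, 7, 5, 10, 7,
    11, 7, 9, 4, 6, 5, 2, 7, 6, 8, 11, 7, 5, 8, 4, 8],
   [4, 10, 8, 0, 6, 0, 6, 7, 10, 9, 11, 2, 5, 9, 11, 9,
    10, 6, 10, 10, 7, 0, 10, 9, 10, 10, 0, 8, 1, 5, 0, 6,
    2, 9, 5, 1, 5, 1, 3, 1, 11, 6, 11, 9, 7, 1, 11, 0,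
    4, 5, 11, 2, 1, 5, 4, 5, 11, 11, 1, 4, 0, 0, 2, 1],
   [2, 4, 2, 11, 2, 5, 11, 11, 9, 6, 9, 3, 5, 6, 9, 6,
    8, 4, 8, 2, 5, 7, 8, 10, 2, 7, 2, 3, 5, 7, 4, 3,
    5, 8, 11, 11, 5, 1, 7, 11, 7, 4, 9, 11, 7, 10, 7, 9,
    4, 8, 11, 2, 5, 8, 11, 8, 4, 7, 1, 3, 2, 5, 1, 2],
   [4, 5, 11, 7, 3, 7, 7, 7, 8, 10, 11, 11, 1, 5, 7, 9,
    6, 3, 10, 2, 6, 4, 10, 7, 6, 9, 11, 4, 5, 2, 3, 11,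
    4, 9, 11, 11, 2, 0, 6, 11, 0, 9, 11, 2, 0, 9, 11, 9,
    4, 6, 8, 3, 6, 6, 2, 8, 5, 4, 0, 2, 0, 4, 0, 7]]

/-- The elation leading from the parent. -/
def genOf (n : ℕ) : ℕ := ((genTab.getD (n / 64) []).getD (n % 64) 0)

/-- The depth, in blocks of sixty-four. -/
def depTab : List (List ℕ) :=
  [[0, 0, 2, 0, 2, 2, 2, 0, 2, 1, 1, 1, 2, 1, 1, 3,
    2, 2, 1, 2, 2, 2, 1, 3, 2, 1, 2, 1, 2, 1, 2, 3,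
    4, 3, 2, 1, 3, 1, 1, 1, 3, 2, 2, 2, 2, 2, 2, 2,
    3, 3, 2, 3, 3, 3, 2, 2, 4, 3, 3, 2, 2, 3, 3, 3],
   [4, 4, 2, 2, 3, 2, 1, 2, 4, 3, 3, 3, 2, 3, 3, 2,
    3, 3, 3, 3, 3, 3, 3, 2, 3, 2, 4, 4, 2, 2, 3, 3,
    4, 3, 2, 1, 4, 1, 2, 1, 3, 2, 2, 3, 3, 2, 2, 3,
    4, 3, 2, 2, 4, 4, 2, 3, 3, 2, 3, 2, 3, 2, 3, 4],
   [4, 2, 3, 1, 3, 1, 3, 1, 3, 2, 2, 2, 2, 2, 2, 2,
    4, 3, 3, 2, 2, 3, 3, 3, 3, 2, 3, 3, 3, 2, 3, 2,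
    4, 2, 2, 2, 3, 2, 2, 2, 4, 2, 2, 3, 2, 2, 2, 2,
    3, 4, 3, 3, 3, 3, 3, 3, 3, 3, 4, 3, 3, 3, 3, 3],
   [4, 3, 2, 3, 4, 2, 3, 3, 3, 3, 3, 3, 3, 3, 3, 3,
    4, 4, 2, 4, 2, 3, 2, 3, 3, 3, 3, 3, 3, 3, 3, 3,
    4, 2, 3, 2, 4, 3, 3, 2, 3, 3, 3, 3, 3, 3, 3, 3,
    3, 3, 3, 3, 3, 3, 3, 3, 4, 2, 3, 3, 3, 2, 3, 2],
   [4, 2, 4, 2, 3, 1, 3, 2, 4, 3, 3, 3, 2, 3, 3, 2,
    3, 4, 2, 4, 2, 3, 2, 3, 3, 3, 3, 3, 3, 3, 3, 2,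
    4, 2, 3, 3, 4, 3, 2, 3, 3, 3, 3, 3, 3, 3, 3, 3,
    3, 3, 3, 3, 3, 3, 3, 3, 4, 2, 4, 4, 2, 2, 3, 2],
   [4, 3, 3, 4, 4, 2, 2, 4, 4, 3, 3, 4, 2, 3, 3, 3,
    3, 3, 3, 3, 3, 3, 3, 3, 3, 3, 3, 3, 3, 3, 3, 3,
    4, 2, 4, 3, 3, 2, 4, 3, 3, 3, 3, 3, 3, 3, 3, 3,
    4, 3, 3, 4, 3, 2, 3, 2, 3, 3, 4, 3, 3, 3, 3, 3],
   [4, 2, 3, 1, 4, 2, 3, 1, 3, 2, 2, 3, 3, 2, 2, 3,
    3, 3, 2, 2, 3, 3, 2, 4, 4, 2, 3, 2, 4, 2, 4, 3,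
    4, 3, 2, 2, 4, 3, 3, 2, 3, 3, 3, 3, 3, 3, 3, 3,
    4, 3, 2, 3, 3, 3, 2, 3, 3, 3, 3, 3, 3, 3, 3, 3],
   [4, 4, 2, 3, 3, 4, 2, 3, 3, 3, 3, 3, 3, 3, 3, 3,
    3, 4, 3, 3, 3, 3, 3, 3, 4, 3, 3, 4, 3, 3, 2, 2,
    4, 3, 3, 2, 4, 3, 3, 2, 4, 2, 2, 4, 4, 2, 2, 2,
    3, 3, 3, 3, 3, 3, 3, 3, 3, 3, 3, 3, 3, 3, 3, 3]]

/-- The depth. -/
def depOf (n : ℕ) : ℕ := ((depTab.getD (n / 64) []).getD (n % 64) 0)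

/-- The rank, in blocks of sixty-four. -/
def rnkTab : List (List ℕ) :=
  [[0, 1, 1, 2, 1, 2, 2, 3, 2, 2, 2, 1, 3, 3, 3, 2,
    2, 2, 2, 1, 3, 3, 3, 2, 2, 2, 2, 1, 3, 3, 3, 2,
    2, 2, 3, 3, 2, 1, 3, 2, 2, 2, 3, 3, 3, 3, 2, 3,
    2, 2, 3, 3, 3, 3, 2, 3, 2, 2, 3, 3, 3, 3, 2, 3],
   [2, 2, 3, 3, 2, 1, 3, 2, 2, 2, 3, 3, 3, 3, 2, 3,
    2, 2, 3, 3, 3, 3, 2, 3, 2, 2, 3, 3, 3, 3, 2, 3,
    2, 2, 3, 3, 2, 1, 3, 2, 2, 2, 3, 3, 3, 3, 2, 3,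
    2, 2, 3, 3, 3, 3, 2, 3, 2, 2, 3, 3, 3, 3, 2, 3],
   [2, 3, 2, 3, 2, 3, 1, 2, 2, 3, 2, 3, 3, 2, 3, 3,
    2, 3, 2, 3, 3, 2, 3, 3, 2, 3, 2, 3, 3, 2, 3, 3,
    2, 3, 3, 2, 2, 3, 3, 3, 2, 3, 3, 2, 3, 2, 2, 1,
    3, 2, 2, 3, 2, 3, 3, 3, 3, 2, 2, 3, 2, 3, 3, 3],
   [2, 3, 3, 2, 2, 3, 3, 3, 3, 2, 2, 3, 2, 3, 3, 3,
    2, 3, 3, 2, 3, 2, 2, 1, 3, 2, 2, 3, 2, 3, 3, 3,
    2, 3, 3, 2, 2, 3, 3, 3, 3, 2, 2, 3, 2, 3, 3, 3,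
    3, 2, 2, 3, 2, 3, 3, 3, 2, 3, 3, 2, 3, 2, 2, 1],
   [2, 3, 2, 3, 2, 3, 1, 2, 2, 3, 2, 3, 3, 2, 3, 3,
    2, 3, 2, 3, 3, 2, 3, 3, 2, 3, 2, 3, 3, 2, 3, 3,
    2, 3, 3, 2, 2, 3, 3, 3, 3, 2, 2, 3, 2, 3, 3, 3,
    3, 2, 2, 3, 2, 3, 3, 3, 2, 3, 3, 2, 3, 2, 2, 1],
   [2, 3, 3, 2, 2, 3, 3, 3, 2, 3, 3, 2, 3, 2, 2, 1,
    3, 2, 2, 3, 2, 3, 3, 3, 3, 2, 2, 3, 2, 3, 3, 3,
    2, 3, 3, 2, 2, 3, 3, 3, 3, 2, 2, 3, 2, 3, 3, 3,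
    2, 3, 3, 2, 3, 2, 2, 1, 3, 2, 2, 3, 2, 3, 3, 3],
   [2, 3, 2, 3, 2, 3, 1, 2, 2, 3, 2, 3, 3, 2, 3, 3,
    2, 3, 2, 3, 3, 2, 3, 3, 2, 3, 2, 3, 3, 2, 3, 3,
    2, 3, 3, 2, 2, 3, 3, 3, 3, 2, 2, 3, 2, 3, 3, 3,
    2, 3, 3, 2, 3, 2, 2, 1, 3, 2, 2, 3, 2, 3, 3, 3],
   [2, 3, 3, 2, 2, 3, 3, 3, 3, 2, 2, 3, 2, 3, 3, 3,
    3, 2, 2, 3, 2, 3, 3, 3, 2, 3, 3, 2, 3, 2, 2, 1,
    2, 3, 3, 2, 2, 3, 3, 3, 2, 3, 3, 2, 3, 2, 2, 1,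
    3, 2, 2, 3, 2, 3, 3, 3, 3, 2, 2, 3, 2, 3, 3, 3]]

/-- The rank. -/
def rnkOf (n : ℕ) : ℕ := ((rnkTab.getD (n / 64) []).getD (n % 64) 0)

/-- The root of a rank. -/
def rootOf (r : ℕ) : ℕ := [0, 1, 3, 7].getD r 0

/-- One line of the certificate. -/
def certAt (n : ℕ) : Bool :=
  (depOf n == 0 && n == rootOf (rnkOf n)) ||
    (depOf (parOf n) < depOf n && rnkOf (parOf n) == rnkOf n && decide (parOf n < 512) && parOf n != 0 &&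
      decide (hcong (gen ⟨genOf n % 12, Nat.mod_lt _ (by norm_num)⟩) (dcd (parOf n)) = dcd n))

end Cfsg.Agent.Lib.Fischer3T52.Radical
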