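import Cfsg.Agent.Lib.Fischer3T52.Radical.Field
import Cfsg.Agent.Lib.M22Struct66.Order

/-!
# The stabiliser of a totally isotropic plane of the six-dimensional Hermitian space over four elements

For a frame `e, f` the elements fixing the plane of the `e i` pointwise are given by Hermitian matrices
`xm`, on which the stabiliser acts by `X ↦ G X G*` through its matrix `gm` on the plane.
-/

set_option autoImplicit false
set_option linter.unusedSectionVars false

namespace Cfsg.Agent.Lib.Fischer3T52.Radical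

open Cfsg Cfsg.Agent.Lib.PSUAut Cfsg.Agent.Lib.ThreeTransp.PSUSix Cfsg.Agent.Lib.M22Struct66

variable {F : Type} [Field F] [Fintype F]

local notation "V" => (Fin 6 → F)
local notation "B" => Cfsg.hermForm 6 F 2
local notation "SU6" => (SUType 6 F 2)
local notation "T" v:max => (tp (n := 6) (q := 2) v (1 : F) : Cfsg.PSU 6 F 2)
local notation "tt" v:max => (eich v (0 : Fin 6 → F) (1 : F) : SUType 6 F 2)

/-- Orthogonality to all vectors of a triple; for the `e i` of a frame, membership in their plane. -/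
def InM (e : Fin 3 → V) (x : V) : Prop := ∀ j, B x (e j) = 0

/-- The stabiliser of the plane. -/
def stabM (e : Fin 3 → V) : Subgroup SU6 where
  carrier := {s | ∀ x, InM e (act s x) ↔ InM e x}
  mul_mem' := fun {s t} hs ht x => by rw [act_mul]; exact (hs _).trans (ht x)
  one_mem' := fun x => by rw [act_one]
  inv_mem' := fun {s} hs x => by rw [← hs (act s⁻¹ x), act_inv_cancel]

/-- The pointwise stabiliser of the triple. -/
def fixM (e : Fin 3 → V) : Subgroup SU6 where
  carrier := {s | ∀ i, act s (e i) = e i}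
  mul_mem' := fun {s t} hs ht i => by rw [act_mul, ht i, hs i]
  one_mem' := fun i => act_one (e i)
  inv_mem' := fun {s} hs i => by
    conv_lhs => rw [← hs i]
    exact act_inv_cancel' s (e i)

theorem mem_fixM {e : Fin 3 → V} {s : SU6} : s ∈ fixM e ↔ ∀ i, act s (e i) = e i := Iff.rfl

/-- The Hermitian matrix of an element fixing the plane pointwise. -/
noncomputable def xm (f : Fin 3 → V) (s : SU6) (k j : Fin 3) : F := B (act s (f j)) (f k)

/-- The matrix of an element on the plane. -/
noncomputable def gm (e f : Fin 3 → V) (s : SU6) (k i : Fin 3) : F := B (act s (e i)) (f k)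

/-- The elation `e j ↦ e j + a e i`. -/
noncomputable def elel (e f : Fin 3 → V) (i j : Fin 3) (a : F) : SU6 := eich (e i) (a ^ 2 • f j) 0

variable (hF : Fintype.card F = 4) {e f : Fin 3 → Fin 6 → F} (hfr : IsFrame e f)
include hF hfr

theorem inM_left (i : Fin 3) : InM e (e i) := fun j => hfr.ee i j

theorem inM_sum (c : Fin 3 → F) : InM e (∑ k, c k • e k) := fun j => by
  have h := herm (n := 6) (card' hF)
  simp [Fin.sum_univ_three, h.add_left, h.smul_left, hfr.ee]

theorem coef_sum (c : Fin 3 → F) (k : Fin 3) : B (∑ l, c l • e l) (f k) = c k := by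
  have h := herm (n := 6) (card' hF)
  fin_cases k <;> simp [Fin.sum_univ_three, h.add_left, h.smul_left, hfr.ef]

theorem eq_sum {x : V} (hx : InM e x) : x = ∑ k, B x (f k) • e k :=
  ext_cmb hF hfr (fun i => by rw [hx i, inM_sum hF hfr]) fun i => by rw [coef_sum hF hfr]

theorem inM_ext {x y : V} (hx : InM e x) (hy : InM e y) (h : ∀ k, B x (f k) = B y (f k)) : x = y :=
  ext_cmb hF hfr (fun i => by rw [hx i, hy i]) h

theorem inM_iso {x : V} (hx : InM e x) : B x x = 0 := by
  have h := herm (n := 6) (card' hF)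
  rw [form_cmb hF hfr x x, hx 0, hx 1, hx 2]
  ring

theorem act_fix_inM {s : SU6} (hs : s ∈ fixM e) {x : V} (hx : InM e x) : act s x = x := by
  rw [eq_sum hF hfr hx, Fin.sum_univ_three, act_add hF, act_add hF, act_smul hF, act_smul hF, act_smul hF,
    hs 0, hs 1, hs 2]

theorem fixM_le : fixM e ≤ stabM e := fun s hs x => by
  constructor
  · intro hx
    have h1 := act_fix_inM hF hfr hs hx
    have h2 := congrArg (act s⁻¹) h1
    rw [act_inv_cancel', act_inv_cancel'] at h2
    exact h2 ▸ hx
  · intro hx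
    rwa [act_fix_inM hF hfr hs hx]

theorem mem_stabM {s : SU6} (hs : ∀ i, InM e (act s (e i))) : s ∈ stabM e := by
  have h := herm (n := 6) (card' hF)
  have hfwd : ∀ x, InM e x → InM e (act s x) := fun x hx j => by
    rw [eq_sum hF hfr hx, Fin.sum_univ_three, act_add hF, act_add hF, act_smul hF, act_smul hF, act_smul hF]
    simp [h.add_left, h.smul_left, hs _ j]
  intro x
  refine ⟨fun hx => ?_, hfwd x⟩
  let φ : {y : V // InM e y} → {y : V // InM e y} := fun y => ⟨act s y.1, hfwd _ y.2⟩
  have hinj : Function.Injective φ := fun y z hyz => by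
    have := congrArg (fun w : {y : V // InM e y} => act s⁻¹ w.1) hyz
    simpa only [φ, act_inv_cancel', Subtype.coe_inj] using this
  obtain ⟨⟨y, hy⟩, hy'⟩ := Finite.injective_iff_surjective.1 hinj ⟨_, hx⟩
  have := congrArg (fun w : {y : V // InM e y} => act s⁻¹ w.1) hy'
  simp only [φ, act_inv_cancel'] at this
  exact this ▸ hy

theorem act_stab_left {s : SU6} (hs : s ∈ stabM e) (i : Fin 3) : act s (e i) = ∑ k, gm e f s k i • e k :=
  eq_sum hF hfr ((hs _).2 (inM_left hF hfr i))

theorem gm_mul {s t : SU6} (hs : s ∈ stabM e) (ht : t ∈ stabM e) (l i : Fin 3) :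
    gm e f (s * t) l i = ∑ k, gm e f s l k * gm e f t k i := by
  have h := herm (n := 6) (card' hF)
  show B (act (s * t) (e i)) (f l) = _
  rw [act_mul, act_stab_left hF hfr ht, Fin.sum_univ_three, act_add hF, act_add hF, act_smul hF, act_smul hF,
    act_smul hF, h.add_left, h.add_left, h.smul_left, h.smul_left, h.smul_left, Fin.sum_univ_three]
  simp only [gm]
  ring

theorem act_fix_f {s : SU6} (hs : s ∈ fixM e) (j : Fin 3) : act s (f j) = f j + ∑ k, xm f s k j • e k := by
  have h := herm (n := 6) (card' hF)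
  refine ext_cmb hF hfr (fun i => ?_) fun k => ?_
  · rw [h.add_left, inM_sum hF hfr, add_zero]
    conv_lhs => rw [← hs i, act_form]
  · rw [h.add_left, coef_sum hF hfr, hfr.ff, zero_add, xm]

theorem act_fix {s : SU6} (hs : s ∈ fixM e) (y : V) :
    act s y = y + ∑ k, (∑ j, xm f s k j * B y (e j)) • e k := by
  obtain ⟨c, rfl⟩ := (hfr.bijective hF).2 y
  simp only [hfr.coef_e hF]
  simp only [cmb, act_add hF, act_smul hF, hs _, act_fix_f hF hfr hs, Fin.sum_univ_three]
  module

theorem xm_mul {s t : SU6} (hs : s ∈ fixM e) (ht : t ∈ fixM e) (k j : Fin 3) :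
    xm f (s * t) k j = xm f s k j + xm f t k j := by
  have h := herm (n := 6) (card' hF)
  show B (act (s * t) (f j)) (f k) = _
  rw [act_mul, act_fix_f hF hfr ht, act_add hF, act_fix_inM hF hfr hs (inM_sum hF hfr _), h.add_left,
    coef_sum hF hfr]
  rfl

theorem xm_one (k j : Fin 3) : xm f (1 : SU6) k j = 0 := by rw [xm, act_one, hfr.ff]

theorem xm_herm {s : SU6} (hs : s ∈ fixM e) (k j : Fin 3) : xm f s j k = xm f s k j ^ 2 := by
  have h := herm (n := 6) (card' hF)
  have h0 := act_form s (f j) (f k)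
  rw [act_fix_f hF hfr hs, act_fix_f hF hfr hs, hfr.ff] at h0
  have e1 : B (f j) (∑ l, xm f s l k • e l) = xm f s j k ^ 2 := by
    fin_cases j <;> simp [Fin.sum_univ_three, h.add_right, h.smul_right, hfr.fe hF]
  have e2 : B (∑ l, xm f s l j • e l) (∑ l, xm f s l k • e l) = 0 := by
    simp [Fin.sum_univ_three, h.add_left, h.add_right, h.smul_left, h.smul_right, hfr.ee]
  rw [h.add_left, h.add_right, h.add_right, hfr.ff, coef_sum hF hfr, e1, e2, zero_add, add_zero] at h0
  have h2 := add_self' hF (xm f s k j)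
  have e3 : xm f s j k ^ 2 = xm f s k j := by linear_combination h0 - h2
  rw [← e3, ← pow_mul]
  by_cases ha : xm f s j k = 0
  · simp [ha]
  · rw [pow_succ _ 3, pow_three hF ha, one_mul]

theorem xm_inj {s t : SU6} (hs : s ∈ fixM e) (ht : t ∈ fixM e) (h : ∀ k j, xm f s k j = xm f t k j) :
    s = t :=
  act_ext fun y => by simp only [act_fix hF hfr hs, act_fix hF hfr ht, h]

theorem conj_fixM {s k : SU6} (hs : s ∈ stabM e) (hk : k ∈ fixM e) : s * k * s⁻¹ ∈ fixM e := fun i => by
  rw [act_mul, act_mul, act_fix_inM hF hfr hk (((stabM e).inv_mem hs _).2 (inM_left hF hfr i)), act_inv_cancel]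

/-- Conjugation is `X ↦ G X G*`. -/
theorem xm_conj {s k : SU6} (hs : s ∈ stabM e) (hk : k ∈ fixM e) (l m : Fin 3) :
    xm f (s * k * s⁻¹) l m = ∑ p, ∑ q, gm e f s l p * xm f k p q * gm e f s m q ^ 2 := by
  have h := herm (n := 6) (card' hF)
  have hb : ∀ q, B (act s⁻¹ (f m)) (e q) = gm e f s m q ^ 2 := fun q => by
    rw [← act_form s, act_inv_cancel, ← symm' hF, gm]
  show B (act (s * k * s⁻¹) (f m)) (f l) = _
  rw [act_mul, act_mul, act_fix hF hfr hk, act_add hF, act_inv_cancel, h.add_left, hfr.ff, zero_add]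
  simp only [hb, Fin.sum_univ_three, act_add hF, act_smul hF, h.add_left, h.smul_left, gm]
  ring

theorem transvection_mem {v : V} (hv : InM e v) : tt v ∈ fixM e := fun i => by
  have h := herm (n := 6) (card' hF)
  rw [act_t hF (inM_iso hF hfr hv), orth_symm h (hv i), zero_smul, add_zero]

theorem xm_transvection {v : V} (hv : InM e v) (k j : Fin 3) :
    xm f (tt v) k j = B v (f k) * B v (f j) ^ 2 := by
  have h := herm (n := 6) (card' hF)
  rw [xm, act_t hF (inM_iso hF hfr hv), h.add_left, h.smul_left, hfr.ff, zero_add, symm' hF, mul_comm]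

/-! ### Elations -/

theorem act_elel {i j : Fin 3} (hij : i ≠ j) (a : F) (x : V) :
    act (elel e f i j a) x = x + B x (e i) • (a ^ 2 • f j) + (a * B x (f j)) • e i := by
  have h := herm (n := 6) (card' hF)
  have e1 : B (a ^ 2 • f j) (e i) = 0 := by
    rw [h.smul_left, hfr.fe hF, if_neg hij.symm, mul_zero]
  have e2 : (0 : F) + 0 ^ 2 + B (a ^ 2 • f j) (a ^ 2 • f j) = 0 := by
    simp [h.smul_left, h.smul_right, hfr.ff]
  rw [elel, act_eich (card' hF) (hfr.ee i i) e1 e2, h.smul_right]
  have h4 : (a ^ 2) ^ 2 = a := by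
    rw [← pow_mul]
    by_cases ha : a = 0
    · simp [ha]
    · rw [pow_succ _ 3, pow_three hF ha, one_mul]
  simp only [Forms.qPowHom_apply, h4, zero_mul, zero_sub, neg_smul]
  rw [← vec_sub hF, sub_eq_add_neg, neg_neg]

theorem act_elel_e {i j : Fin 3} (hij : i ≠ j) (a : F) (k : Fin 3) :
    act (elel e f i j a) (e k) = e k + (if k = j then a else 0) • e i := by
  rw [act_elel hF hfr hij, hfr.ee, hfr.ef, zero_smul, add_zero]
  split_ifs <;> simp

theorem act_elel_f {i j : Fin 3} (hij : i ≠ j) (a : F) (k : Fin 3) :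
    act (elel e f i j a) (f k) = f k + (if k = i then a ^ 2 else 0) • f j := by
  rw [act_elel hF hfr hij, hfr.ff, hfr.fe hF, mul_zero, zero_smul, add_zero]
  split_ifs <;> simp

theorem elel_mem {i j : Fin 3} (hij : i ≠ j) (a : F) : elel e f i j a ∈ stabM e :=
  mem_stabM hF hfr fun k r => by
    have h := herm (n := 6) (card' hF)
    rw [act_elel_e hF hfr hij, h.add_left, h.smul_left, hfr.ee, hfr.ee, mul_zero, add_zero]

theorem gm_elel {i j : Fin 3} (hij : i ≠ j) (a : F) (r s : Fin 3) :
    gm e f (elel e f i j a) r s = if r = s then 1 else if r = i ∧ s = j then a else 0 := by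
  have h := herm (n := 6) (card' hF)
  rw [gm, act_elel_e hF hfr hij, h.add_left, h.smul_left, hfr.ef, hfr.ef]
  by_cases h1 : r = s
  · subst h1
    by_cases h2 : r = j
    · subst h2; simp [hij]
    · simp [h2]
  · simp only [if_neg h1, if_neg (Ne.symm h1), zero_add]
    by_cases h2 : r = i <;> by_cases h3 : s = j <;> simp [h2, h3, Ne.symm, eq_comm]

end Cfsg.Agent.Lib.Fischer3T52.Radical
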