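import Cfsg.Agent.Lib.Fischer3T52.Radical.Classify

/-!
# `PSU₆(2)`: a member of a radical is a product of at most three commuting transvections in it
-/

set_option autoImplicit false
set_option linter.unusedSectionVars false

namespace Cfsg.Agent.Lib.Fischer3T52.Radical

open Cfsg Cfsg.Agent.Lib.PSUAut Cfsg.Agent.Lib.ThreeTransp.PSUSix Cfsg.Agent.Lib.M22Struct66

variable {F : Type} [Field F] [Fintype F]

local notation "V" => (Fin 6 → F)
local notation "B" => Cfsg.hermForm 6 F 2
local notation "SU6" => (SUType 6 F 2)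
local notation "T" v:max => (tp (n := 6) (q := 2) v (1 : F) : Cfsg.PSU 6 F 2)
local notation "tt" v:max => (eich v (0 : Fin 6 → F) (1 : F) : SUType 6 F 2)

variable (hF : Fintype.card F = 4) {e f : Fin 3 → Fin 6 → F} (hfr : IsFrame e f)
include hF hfr

/-- An involution over a member of the radical moves vectors by the plane. -/
theorem move_inM {u : SU6} (hu : u * u = 1) (h : proj u ∈ rad e) (y : V) : InM e (act u y + y) := by
  obtain ⟨k, hk, hku⟩ := h
  obtain ⟨a, ha⟩ := exists_scalar_of_proj_eq (card' hF) hku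
  have h1 : act (u * u) (e 0) = a ^ 2 • e 0 := by
    rw [act_mul, ha (e 0), hk 0, act_smul hF, ha, hk 0, smul_smul, pow_two]
  rw [hu, act_one] at h1
  have h2 : a ^ 2 = 1 := by
    have := congrArg (fun x => B x (f 0)) h1
    simpa [(herm (n := 6) (card' hF)).smul_left, hfr.ef] using this.symm
  have ha1 : a = 1 := by
    have h4 := pow_four' hF hfr a
    rw [h2, one_pow] at h4
    exact h4.symm
  rw [ha, ha1, one_smul, act_fix hF hfr hk, add_comm, ← add_assoc, vec_add_self hF, zero_add]
  exact inM_sum hF hfr _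

/-- A member of the radical is 1, a point, or a product of two or three commuting points of it. -/
theorem mem_rad_cases {x : Cfsg.PSU 6 F 2} (hx : x ∈ rad e) :
    x = 1 ∨ (∃ a, IsPt a ∧ InM e a ∧ x = T a) ∨
      (∃ a b, IsPt a ∧ IsPt b ∧ InM e a ∧ InM e b ∧ T a ≠ T b ∧ x = T a * T b) ∨
      ∃ e' f' : Fin 3 → V, IsFrame e' f' ∧ (∀ i, InM e (e' i)) ∧ x = T (e' 0) * T (e' 1) * T (e' 2) := by
  have h := herm (n := 6) (card' hF)
  have hx2 := rad_sq hF hfr x hx
  by_cases hx1 : x = 1
  · exact Or.inl hx1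
  refine Or.inr ?_
  rcases invol_decomp hF hx2 hx1 with ⟨a, ha, rfl⟩ | ⟨a, b, ha, hb, hab, hne, rfl⟩ | ⟨e', f', hfr', rfl⟩
  · exact Or.inl ⟨a, ha, inM_of_mem hF hfr ha hx, rfl⟩
  · have hu : (tt a * tt b) * (tt a * tt b) = 1 := by
      obtain ⟨e', f', c, hfr', he0, he1⟩ := exists_frame_orth hF ha.1 ha.2 hb.2 (orth_symm h hab) fun t e0 => by
        by_cases ht : t = 0
        · exact hb.1 (by rw [e0, ht, zero_smul])
        · exact hne (by rw [e0, T_smul hF ha.2 ht])
      refine fixM_sq hF hfr' (mul_mem (transvection_mem hF hfr' ?_) (transvection_mem hF hfr' ?_))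
      · exact he0 ▸ inM_left hF hfr' 0
      · intro j
        rw [he1, ← he0]
        simp [h.add_left, h.smul_left, hfr'.ee]
    have hm := move_inM hF hfr hu (by rwa [map_mul])
    have hact : ∀ y, act (tt a * tt b) y + y = B y b • b + B y a • a := fun y => by
      rw [act_mul, act_t hF hb.2, act_t hF ha.2, h.add_left, h.smul_left, orth_symm h hab, mul_zero, add_zero,
        add_comm, ← add_assoc, ← add_assoc, vec_add_self hF, zero_add]
    obtain ⟨e', f', c, hfr', he0, he1⟩ := exists_frame_orth hF ha.1 ha.2 hb.2 (orth_symm h hab) fun t e0 => by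
      by_cases ht : t = 0
      · exact hb.1 (by rw [e0, ht, zero_smul])
      · exact hne (by rw [e0, T_smul hF ha.2 ht])
    have hbM : InM e b := by
      have := hm (f' 1)
      rw [hact] at this
      have e1 : B (f' 1) a = 0 := by rw [← he0, hfr'.fe hF]; simp
      have e2 : B (f' 1) b = 1 := by rw [he1, ← he0, h.add_right, h.smul_right, hfr'.fe hF, hfr'.fe hF]; simp
      rwa [e1, e2, one_smul, zero_smul, add_zero] at this
    have haM : InM e a := by
      intro j
      have := hm (f' 0) j
      have e1 : B (f' 0) a = 1 := by rw [← he0, hfr'.fe hF]; simp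
      rw [hact, e1, one_smul, h.add_left, h.smul_left, hbM j, mul_zero, zero_add] at this
      exact this
    exact Or.inr (Or.inl ⟨a, b, ha, hb, haM, hbM, hne, rfl⟩)
  · have hu : (tt (e' 0) * tt (e' 1) * tt (e' 2)) * (tt (e' 0) * tt (e' 1) * tt (e' 2)) = 1 :=
      fixM_sq hF hfr' (mul_mem (mul_mem (transvection_mem hF hfr' (inM_left hF hfr' 0))
        (transvection_mem hF hfr' (inM_left hF hfr' 1))) (transvection_mem hF hfr' (inM_left hF hfr' 2)))
    have hm := move_inM hF hfr hu (by rwa [map_mul, map_mul])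
    have hact : ∀ i, act (tt (e' 0) * tt (e' 1) * tt (e' 2)) (f' i) + f' i = e' i := fun i => by
      simp only [act_mul, act_t hF (hfr'.ee _ _), h.add_left, h.smul_left, hfr'.ee, hfr'.fe hF, mul_zero, add_zero]
      fin_cases i <;> simp [add_comm (f' _), add_assoc, vec_add_self hF]
    exact Or.inr (Or.inr ⟨e', f', hfr', fun i => hact i ▸ hm (f' i), rfl⟩)

end Cfsg.Agent.Lib.Fischer3T52.Radical
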